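import Mathlib.GroupTheory.GroupAction.Basic
import Mathlib.GroupTheory.OrderOfElement
import Mathlib.GroupTheory.Solvable
import Mathlib.Algebra.Group.Action.End
import Mathlib.Algebra.Group.Subgroup.Lattice
import Mathlib.SetTheory.Cardinal.NatCard
import Mathlib.Tactic.Abel

/-!
Groups of odd order acting completely reducibly on finite abelian groups: the vocabulary and the
elementary reductions used to find two vectors with trivial common stabiliser.
-/

set_option autoImplicit false

namespace Cfsg.Agent.OddOrbit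

universe u

section Defs

variable (G V : Type*) [Group G] [AddCommGroup V] [DistribMulAction G V]

/-- Complete reducibility of an action on an abelian group. -/
def CR : Prop :=
  ∀ U : AddSubgroup V, (∀ a : G, ∀ v ∈ U, a • v ∈ U) →
    ∃ W : AddSubgroup V, (∀ a : G, ∀ w ∈ W, a • w ∈ W) ∧ U ⊓ W = ⊥ ∧ U ⊔ W = ⊤

/-- Two vectors whose common stabiliser is the kernel of the action. -/
def HasPair : Prop := ∃ v w : V, ∀ g : G, g • v = v → g • w = w → ∀ x : V, g • x = x

end Defs

/-- The theorem for all modules with at most `n` elements. -/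
def GoodUpTo (n : ℕ) : Prop :=
  ∀ (G V : Type u) [Group G] [Finite G] [AddCommGroup V] [Finite V] [DistribMulAction G V],
    Nat.card V ≤ n → Odd (Nat.card G) → Group.IsSolvable G → CR G V → HasPair G V

theorem GoodUpTo.mono {m n : ℕ} (h : GoodUpTo.{u} n) (hmn : m ≤ n) : GoodUpTo.{u} m :=
  fun G V _ _ _ _ _ hV ho hs hc => h G V (hV.trans hmn) ho hs hc

section Odd

variable {G α : Type*} [Group G] [MulAction G α]

/-- An element of an odd group fixing a point by its square fixes it. -/
theorem fixed_of_sq (hG : Odd (Nat.card G)) {g : G} {x : α} (h : g • g • x = x) : g • x = x := by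
  obtain ⟨k, hk⟩ := hG
  have h1 : (g * g) ∈ MulAction.stabilizer G x := by
    rw [MulAction.mem_stabilizer_iff, mul_smul]; exact h
  have h2 : g = (g * g) ^ (k + 1) := by
    have h3 : g ^ (2 * k + 1) = 1 := by rw [← hk]; exact pow_card_eq_one'
    rw [← sq, ← pow_mul, show 2 * (k + 1) = 2 * k + 1 + 1 by omega, pow_succ, h3, one_mul]
  have h4 : g ∈ MulAction.stabilizer G x := h2 ▸ Subgroup.pow_mem _ h1 (k + 1)
  exact MulAction.mem_stabilizer_iff.mp h4

/-- An element of an odd group cannot exchange two points. -/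
theorem fixed_of_swap (hG : Odd (Nat.card G)) {g : G} {x y : α} (h1 : g • x = y) (h2 : g • y = x) :
    x = y := by
  rw [← h1]
  exact (fixed_of_sq hG (by rw [h1, h2])).symm

end Odd

theorem odd_subgroup {G : Type*} [Group G] (hG : Odd (Nat.card G)) (H : Subgroup G) :
    Odd (Nat.card H) :=
  hG.of_dvd_nat H.card_subgroup_dvd_card

theorem odd_range {G H : Type*} [Group G] [Group H] (hG : Odd (Nat.card G)) (f : G →* H) :
    Odd (Nat.card f.range) :=
  hG.of_dvd_nat (Subgroup.card_range_dvd f)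

theorem solvable_range {G H : Type*} [Group G] [Group H] (hG : Group.IsSolvable G) (f : G →* H) :
    Group.IsSolvable f.range :=
  have := hG
  Group.isSolvable_of_surjective f.rangeRestrict_surjective

section Sub

variable {G V : Type u} [Group G] [AddCommGroup V] [DistribMulAction G V]

/-- The action on an invariant subgroup. -/
@[reducible] def subAction (U : AddSubgroup V) (hU : ∀ a : G, ∀ v ∈ U, a • v ∈ U) :
    DistribMulAction G U where
  smul g u := ⟨g • (u : V), hU g u u.2⟩
  one_smul u := Subtype.ext (one_smul G (u : V))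
  mul_smul g h u := Subtype.ext (mul_smul g h (u : V))
  smul_zero g := Subtype.ext (smul_zero g)
  smul_add g a b := Subtype.ext (smul_add g (a : V) b)

theorem CR.sub (hcr : CR G V) (U : AddSubgroup V) (hU : ∀ a : G, ∀ v ∈ U, a • v ∈ U) :
    letI := subAction U hU
    CR G U := by
  let := subAction U hU
  intro U₁ hU₁
  obtain ⟨W, hW, hinf, hsup⟩ := hcr (U₁.map U.subtype) (by
    rintro a _ ⟨x, hx, rfl⟩
    exact ⟨a • x, hU₁ a x hx, rfl⟩)
  refine ⟨W.addSubgroupOf U, fun a w hw => hW a _ hw, ?_, ?_⟩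
  · refine (AddSubgroup.eq_bot_iff_forall _).mpr fun x ⟨hx1, hx2⟩ => Subtype.ext ?_
    exact (AddSubgroup.eq_bot_iff_forall _).mp hinf _ ⟨⟨x, hx1, rfl⟩, hx2⟩
  · refine eq_top_iff.mpr fun x _ => ?_
    obtain ⟨a, ha, b, hb, hab⟩ := AddSubgroup.mem_sup.mp
      (show (x : V) ∈ U₁.map U.subtype ⊔ W by rw [hsup]; exact AddSubgroup.mem_top _)
    obtain ⟨a', ha', rfl⟩ := ha
    have hb' : b ∈ U := by
      have : b = (x : V) - (a' : V) := eq_sub_of_add_eq' hab
      rw [this]; exact U.sub_mem x.2 a'.2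
    exact AddSubgroup.mem_sup.mpr ⟨a', ha', ⟨b, hb'⟩, hb, Subtype.ext hab⟩

/-- The pair found in two complementary invariant subgroups. -/
theorem hasPair_of_split {U W : AddSubgroup V} (hU : ∀ a : G, ∀ v ∈ U, a • v ∈ U)
    (hW : ∀ a : G, ∀ w ∈ W, a • w ∈ W) (hinf : U ⊓ W = ⊥) (hsup : U ⊔ W = ⊤)
    (h1 : letI := subAction U hU; HasPair G U) (h2 : letI := subAction W hW; HasPair G W) :
    HasPair G V := by
  obtain ⟨v₁, w₁, h1⟩ := h1
  obtain ⟨v₂, w₂, h2⟩ := h2
  have key : ∀ (g : G) (a : U) (b : W), g • ((a : V) + b) = a + b →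
      g • (a : V) = a ∧ g • (b : V) = b := by
    intro g a b h
    rw [smul_add] at h
    have e : g • (a : V) - a = b - g • (b : V) := by
      rw [sub_eq_sub_iff_add_eq_add, h, add_comm]
    have h0 : g • (a : V) - a = 0 := (AddSubgroup.eq_bot_iff_forall _).mp hinf _
      ⟨U.sub_mem (hU g _ a.2) a.2, by rw [e]; exact W.sub_mem b.2 (hW g _ b.2)⟩
    exact ⟨sub_eq_zero.mp h0, (sub_eq_zero.mp (e.symm.trans h0)).symm⟩
  refine ⟨v₁ + v₂, w₁ + w₂, fun g hv hw x => ?_⟩
  obtain ⟨hv1, hv2⟩ := key g v₁ v₂ hv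
  obtain ⟨hw1, hw2⟩ := key g w₁ w₂ hw
  obtain ⟨a, ha, b, hb, rfl⟩ := AddSubgroup.mem_sup.mp
    (show x ∈ U ⊔ W by rw [hsup]; exact AddSubgroup.mem_top _)
  rw [smul_add]
  congr 1
  · exact congrArg Subtype.val (h1 g (Subtype.ext hv1) (Subtype.ext hw1) ⟨a, ha⟩)
  · exact congrArg Subtype.val (h2 g (Subtype.ext hv2) (Subtype.ext hw2) ⟨b, hb⟩)

/-- A pair can be chosen with two different entries. -/
theorem HasPair.ne [Nontrivial V] (h : HasPair G V) :
    ∃ v w : V, v ≠ w ∧ ∀ g : G, g • v = v → g • w = w → ∀ x : V, g • x = x := by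
  obtain ⟨v, w, h⟩ := h
  by_cases hvw : v = w
  · subst hvw
    obtain ⟨y, hy⟩ := exists_ne v
    exact ⟨v, y, hy.symm, fun g hv _ => h g hv hv⟩
  · exact ⟨v, w, hvw, h⟩

end Sub

section Image

variable (G V : Type u) [Group G] [AddCommGroup V] [DistribMulAction G V]

/-- The representation as units of the endomorphism ring. -/
def repHom : G →* (AddMonoid.End V)ˣ := (DistribMulAction.toAddMonoidEnd G V).toHomUnits

theorem repHom_smul (g : G) (v : V) : (repHom G V g) • v = g • v := rfl

instance : FaithfulSMul (repHom G V).range V where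
  eq_of_smul_eq_smul {a b} h := Subtype.ext (Units.ext (AddMonoidHom.ext fun v => h v))

theorem CR.range {G V : Type u} [Group G] [AddCommGroup V] [DistribMulAction G V] (h : CR G V) :
    CR (repHom G V).range V := by
  intro U hU
  obtain ⟨W, hW, h1, h2⟩ := h U fun a v hv => hU ⟨_, a, rfl⟩ v hv
  refine ⟨W, ?_, h1, h2⟩
  rintro ⟨_, a, rfl⟩ w hw
  exact hW a w hw

theorem hasPair_of_range {G V : Type u} [Group G] [AddCommGroup V] [DistribMulAction G V]
    (h : HasPair (repHom G V).range V) : HasPair G V := by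
  obtain ⟨v, w, h⟩ := h
  exact ⟨v, w, fun g hv hw x => h ⟨_, g, rfl⟩ hv hw x⟩

end Image

end Cfsg.Agent.OddOrbit
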