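import Cfsg.Agent.OddOrbit.Basic
import Cfsg.Agent.Coprime.SchurZassenhaus
import Mathlib.GroupTheory.PGroup
import Mathlib.GroupTheory.SpecificGroups.Cyclic

/-!
Bounds for the order of an odd solvable group acting faithfully and completely reducibly on an
abelian group of square order, and the arithmetic needed afterwards.
-/

set_option autoImplicit false

namespace Cfsg.Agent.OddOrbit

open MulAction

universe u

/-- The subgroup of vectors fixed by an element. -/
def fixSub {G V : Type*} [Group G] [AddCommGroup V] [DistribMulAction G V] (g : G) :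
    AddSubgroup V where
  carrier := {v | g • v = v}
  add_mem' {a b} (ha : g • a = a) (hb : g • b = b) := show g • (a + b) = a + b by
    rw [smul_add, ha, hb]
  zero_mem' := smul_zero g
  neg_mem' {a} (ha : g • a = a) := show g • (-a) = -a by rw [smul_neg, ha]

theorem mem_fixSub {G V : Type*} [Group G] [AddCommGroup V] [DistribMulAction G V] {g : G} {v : V} :
    v ∈ fixSub g ↔ g • v = v := Iff.rfl

/-- A free action on a set gives a divisibility. -/
theorem free_dvd {G α : Type*} [Group G] [MulAction G α] (s : Set α)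
    (hs : ∀ g : G, ∀ x ∈ s, g • x ∈ s) (hfree : ∀ g : G, ∀ x ∈ s, g • x = x → g = 1) :
    Nat.card G ∣ Nat.card s := by
  let : MulAction G s :=
    { smul := fun g x => ⟨g • (x : α), hs g x x.2⟩
      one_smul := fun x => Subtype.ext (one_smul G (x : α))
      mul_smul := fun g h x => Subtype.ext (mul_smul g h (x : α)) }
  have hst : ∀ b : s, stabilizer G b = ⊥ := fun b => (Subgroup.eq_bot_iff_forall _).mpr
    fun g hg => hfree g b b.2 (congrArg Subtype.val (mem_stabilizer_iff.mp hg))
  rw [Nat.card_congr (selfEquivOrbitsQuotientProd hst), Nat.card_prod]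
  exact dvd_mul_left _ _

section Module

variable {H W : Type u} [Group H] [Finite H] [AddCommGroup W] [Finite W] [DistribMulAction H W]

/-- A normal `r`-subgroup acts trivially on a completely reducible `r`-group. -/
theorem pgroup_bot [FaithfulSMul H W] (hcr : CR H W) {r k : ℕ} (hr : r.Prime)
    (hW : Nat.card W = r ^ k) (N : Subgroup H) [hN : N.Normal] (hp : IsPGroup r N) : N = ⊥ := by
  have := Fact.mk hr
  let U : AddSubgroup W := ⨅ x : N, fixSub (x : H)
  have hmem : ∀ w, w ∈ U ↔ ∀ x ∈ N, x • w = w := fun w => by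
    simp [U, AddSubgroup.mem_iInf, mem_fixSub]
  have hU : ∀ a : H, ∀ w ∈ U, a • w ∈ U := fun a w hw => (hmem _).mpr fun x hx => by
    have h := (hmem w).mp hw (a⁻¹ * x * a) (by simpa using hN.conj_mem x hx a⁻¹)
    rw [mul_smul, mul_smul, inv_smul_eq_iff] at h
    exact h
  obtain ⟨U', hU', hinf, hsup⟩ := hcr U hU
  let := subAction U' hU'
  have hU'0 : U' = ⊥ := by
    by_contra hne
    have : Nontrivial U' := U'.nontrivial_iff_ne_bot.mpr hne
    have hdvd : r ∣ Nat.card U' := by
      obtain ⟨j, -, hj⟩ := (Nat.dvd_prime_pow hr).mp (hW ▸ U'.card_addSubgroup_dvd_card)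
      rcases j with _ | j
      · exact absurd (hj.trans (pow_zero r)) Finite.one_lt_card.ne'
      · exact hj ▸ dvd_pow_self r (by omega)
    obtain ⟨b, hb, hb0⟩ := hp.exists_fixed_point_of_prime_dvd_card_of_fixed_point U' hdvd
      (a := (0 : U')) fun x => smul_zero (x : H)
    refine hb0 (Subtype.ext ?_)
    refine ((AddSubgroup.eq_bot_iff_forall _).mp hinf _ ⟨?_, b.2⟩).symm
    exact (hmem _).mpr fun x hx => congrArg Subtype.val (hb ⟨x, hx⟩)
  rw [hU'0, sup_bot_eq] at hsup
  refine (Subgroup.eq_bot_iff_forall _).mpr fun x hx => eq_of_smul_eq_smul (α := W) fun w => ?_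
  rw [one_smul]
  exact (hmem w).mp (hsup ▸ AddSubgroup.mem_top w) x hx

/-- A completely reducible module of prime power order has prime exponent. -/
theorem nsmul_eq_zero_of_cr (hcr : CR H W) {r : ℕ} (hr : r.Prime) {w : W} {k : ℕ}
    (hw : (r ^ k) • w = 0) : r • w = 0 := by
  have := Fact.mk hr
  induction k generalizing w with
  | zero => rw [pow_zero, one_nsmul] at hw; rw [hw, nsmul_zero]
  | succ k ih =>
    have h1 : r • (r • w) = 0 := ih (by rw [← mul_nsmul']; rwa [← pow_succ])
    let U : AddSubgroup W :=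
      { carrier := {y | r • y = 0}
        add_mem' := fun {a b} (ha : r • a = 0) (hb : r • b = 0) => show r • (a + b) = 0 by
          rw [nsmul_add, ha, hb, add_zero]
        zero_mem' := nsmul_zero r
        neg_mem' := fun {a} (ha : r • a = 0) => show r • (-a) = 0 by rw [neg_nsmul, ha, neg_zero] }
    obtain ⟨U', hU', hinf, hsup⟩ := hcr U fun a y (hy : r • y = 0) => show r • (a • y) = 0 by
      show r • (DistribSMul.toAddMonoidHom W a y) = 0
      rw [← map_nsmul, hy, map_zero]
    obtain ⟨y, hy, z, hz, hyz⟩ := AddSubgroup.mem_sup.mp (hsup ▸ AddSubgroup.mem_top w)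
    have hrz : r • z = 0 := by
      refine (AddSubgroup.eq_bot_iff_forall _).mp hinf _ ⟨?_, U'.nsmul_mem hz r⟩
      show r • (r • z) = 0
      have : r • (r • w) = r • (r • y) + r • (r • z) := by rw [← nsmul_add, ← nsmul_add, hyz]
      rw [h1, show r • y = 0 from hy, nsmul_zero, zero_add] at this
      exact this.symm
    rw [← hyz, nsmul_add, show r • y = 0 from hy, hrz, add_zero]

theorem card_dvd_of_square [FaithfulSMul H W] {r : ℕ} (hr : r.Prime) (hW : Nat.card W = r * r)
    (hexp : ∀ w : W, r • w = 0) : Nat.card H ∣ (r * r - 1) * (r * r - r) := by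
  classical
  have := Fintype.ofFinite W
  have hord : ∀ v : W, v ≠ 0 → Nat.card (AddSubgroup.zmultiples v) = r := fun v hv => by
    rw [Nat.card_zmultiples]
    exact ((Nat.dvd_prime hr).mp (addOrderOf_dvd_of_nsmul_eq_zero (hexp v))).resolve_left
      fun h => hv (AddMonoid.addOrderOf_eq_one_iff.mp h)
  let s : Set (W × W) := {p | p.1 ≠ 0 ∧ p.2 ∉ AddSubgroup.zmultiples p.1}
  have hcard : Nat.card s = (r * r - 1) * (r * r - r) := by
    let e : s ≃ Σ v : {v : W // v ≠ 0}, {w : W // w ∉ AddSubgroup.zmultiples (v : W)} :=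
      { toFun := fun p => ⟨⟨p.1.1, p.2.1⟩, ⟨p.1.2, p.2.2⟩⟩
        invFun := fun q => ⟨(q.1.1, q.2.1), q.1.2, q.2.2⟩
        left_inv := fun _ => rfl
        right_inv := fun _ => rfl }
    rw [Nat.card_congr e, Nat.card_sigma, Finset.sum_const_nat (m := r * r - r),
      Finset.card_univ, ← Nat.card_eq_fintype_card]
    · rw [Nat.card_eq_fintype_card, Fintype.card_subtype_compl, Fintype.card_subtype_eq,
        ← Nat.card_eq_fintype_card, hW]
    · intro v _
      rw [Nat.card_eq_fintype_card, Fintype.card_subtype_compl, ← Nat.card_eq_fintype_card,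
        ← Nat.card_eq_fintype_card, hW]
      rw [hord v v.2]
  rw [← hcard]
  refine free_dvd (G := H) (α := W × W) s (fun g p hp => ⟨?_, ?_⟩) fun g p hp hg => ?_
  · exact fun h => hp.1 ((smul_eq_zero_iff_eq g).mp h)
  · intro h
    obtain ⟨i, hi⟩ := AddSubgroup.mem_zmultiples_iff.mp h
    refine hp.2 (AddSubgroup.mem_zmultiples_iff.mpr ⟨i, MulAction.injective g ?_⟩)
    show g • (i • p.1) = g • p.2
    rw [show g • (i • p.1) = i • (g • p.1) from (DistribSMul.toAddMonoidHom W g).map_zsmul _ _]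
    exact hi
  · have h1 : g • p.1 = p.1 := congrArg Prod.fst hg
    have h2 : g • p.2 = p.2 := congrArg Prod.snd hg
    have htop : fixSub g = (⊤ : AddSubgroup W) := by
      refine AddSubgroup.eq_top_of_card_eq _ ?_
      have hle : AddSubgroup.zmultiples p.1 ≤ fixSub g := AddSubgroup.zmultiples_le.mpr h1
      have hd := (fixSub (V := W) g).card_addSubgroup_dvd_card
      rw [hW, ← sq] at hd
      obtain ⟨j, hj, hje⟩ := (Nat.dvd_prime_pow hr).mp hd
      have hlt : r < Nat.card (fixSub (V := W) g) := by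
        rw [← hord p.1 hp.1]
        refine lt_of_le_of_ne (Nat.le_of_dvd Nat.card_pos (AddSubgroup.card_dvd_of_le hle))
          fun h => hp.2 ?_
        rw [AddSubgroup.eq_of_le_of_card_ge hle h.ge]
        exact h2
      rw [hW, hje]
      rcases (by omega : j = 0 ∨ j = 1 ∨ j = 2) with rfl | rfl | rfl
      · rw [hje, pow_zero] at hlt; have := hr.two_le; omega
      · rw [hje, pow_one] at hlt; omega
      · exact sq r
    refine eq_of_smul_eq_smul (α := W) fun w => ?_
    rw [one_smul]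
    exact mem_fixSub.mp (htop ▸ AddSubgroup.mem_top w)

/-- The case of a module of order `81`. -/
theorem card_le_of_81 [FaithfulSMul H W] (hcr : CR H W) (hH : Odd (Nat.card H))
    (hs : Group.IsSolvable H) (hW : Nat.card W = 81) : Nat.card H ≤ 39 := by
  classical
  rcases subsingleton_or_nontrivial H with hsub | hnt
  · rw [Nat.card_of_subsingleton (1 : H)]; omega
  have := hs
  obtain ⟨l, hl, P, hPn, hP, hPne⟩ := Coprime.exists_normal_isPGroup (G := H)
  have := Fact.mk hl
  have hl3 : l ≠ 3 := by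
    rintro rfl
    exact hPne (pgroup_bot hcr (k := 4) hl (by rw [hW]; norm_num) P hP)
  have hexp : ∀ w : W, (3 : ℕ) • w = 0 := fun w => nsmul_eq_zero_of_cr hcr Nat.prime_three
    (k := 4) (by
      have := card_nsmul_eq_zero' (x := w)
      rw [hW] at this
      norm_num
      exact this)
  -- central elements of order dividing `l`
  let Z : Subgroup H :=
    { carrier := {y | y ∈ P ∧ (∀ z ∈ P, y * z = z * y) ∧ y ^ l = 1}
      one_mem' := ⟨P.one_mem, fun z _ => by rw [one_mul, mul_one], one_pow l⟩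
      mul_mem' := fun {a b} ha hb => ⟨P.mul_mem ha.1 hb.1, fun z hz => by
        rw [mul_assoc, hb.2.1 z hz, ← mul_assoc, ha.2.1 z hz, mul_assoc], by
        rw [Commute.mul_pow (ha.2.1 b hb.1), ha.2.2, hb.2.2, one_mul]⟩
      inv_mem' := fun {a} ha => ⟨P.inv_mem ha.1, fun z hz => (Commute.inv_left (ha.2.1 z hz)).eq,
        by rw [inv_pow, ha.2.2, inv_one]⟩ }
  have hZn : Z.Normal := ⟨fun y hy g => ⟨hPn.conj_mem y hy.1 g, fun z hz => by
    have h := hy.2.1 (g⁻¹ * z * g) (by simpa using hPn.conj_mem z hz g⁻¹)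
    calc g * y * g⁻¹ * z = g * (y * (g⁻¹ * z * g)) * g⁻¹ := by group
      _ = g * ((g⁻¹ * z * g) * y) * g⁻¹ := by rw [h]
      _ = z * (g * y * g⁻¹) := by group, by rw [conj_pow, hy.2.2]; group⟩⟩
  obtain ⟨x, hxZ, hx⟩ : ∃ x ∈ Z, x ≠ 1 := by
    have : Nontrivial P := P.nontrivial_iff_ne_bot.mpr hPne
    have hc : Nontrivial (Subgroup.center P) := hP.center_nontrivial
    obtain ⟨k, hk⟩ := (hP.to_subgroup (Subgroup.center P)).exists_card_eq
    have hdvd : l ∣ Nat.card (Subgroup.center P) := by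
      rcases k with _ | k
      · exact absurd (hk.trans (pow_zero l)) Finite.one_lt_card.ne'
      · exact hk ▸ dvd_pow_self l (by omega)
    obtain ⟨y, hy⟩ := exists_prime_orderOf_dvd_card' l hdvd
    refine ⟨((y : P) : H), ⟨(y : P).2, fun z hz => ?_, ?_⟩, ?_⟩
    · exact congrArg Subtype.val ((Subgroup.mem_center_iff.mp y.2) ⟨z, hz⟩).symm
    · have h := pow_orderOf_eq_one y
      rw [hy] at h
      exact congrArg (fun t : Subgroup.center P => ((t : P) : H)) h
    · intro h
      rw [show y = 1 from Subtype.ext (Subtype.ext h), orderOf_one] at hy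
      exact hl.ne_one hy.symm
  have hxl : orderOf x = l :=
    ((Nat.dvd_prime hl).mp (orderOf_dvd_of_pow_eq_one hxZ.2.2)).resolve_left
      fun h => hx (orderOf_eq_one_iff.mp h)
  have hl2 : l ≠ 2 := by
    rintro rfl
    exact hH.not_two_dvd_nat (hxl ▸ orderOf_dvd_natCard x)
  have hX : IsPGroup l (Subgroup.zpowers x) :=
    IsPGroup.of_card (n := 1) (by rw [Nat.card_zpowers, hxl, pow_one])
  let F : AddSubgroup W := fixSub x
  have hFfix : Nat.card (fixedPoints (Subgroup.zpowers x) W) = Nat.card F := by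
    refine Nat.card_congr (Equiv.subtypeEquivRight fun w => ?_)
    refine ⟨fun h => h ⟨x, Subgroup.mem_zpowers x⟩, fun h g => ?_⟩
    obtain ⟨g, hg⟩ := g
    exact mem_stabilizer_iff.mp
      ((Subgroup.zpowers_le.mpr (mem_stabilizer_iff.mpr h) : _ ≤ stabilizer H w) hg)
  obtain ⟨j, hj, hFj⟩ : ∃ j, j ≤ 4 ∧ Nat.card F = 3 ^ j :=
    (Nat.dvd_prime_pow Nat.prime_three).mp (by
      have := F.card_addSubgroup_dvd_card
      rw [hW] at this; norm_num; exact this)
  have hmod := hX.card_modEq_card_fixedPoints W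
  rw [hFfix, hFj, hW] at hmod
  have hj4 : j ≠ 4 := by
    rintro rfl
    refine hx (eq_of_smul_eq_smul (α := W) fun w => ?_)
    have : F = ⊤ := F.eq_top_of_card_eq (by rw [hFj, hW]; norm_num)
    rw [one_smul]
    exact mem_fixSub.mp (this ▸ AddSubgroup.mem_top w : w ∈ F)
  have hdvd := (Nat.modEq_iff_dvd' (by
    calc (3 : ℕ) ^ j ≤ 3 ^ 4 := Nat.pow_le_pow_right (by norm_num) hj
      _ = 81 := by norm_num)).mp hmod.symm
  -- the two possibilities
  have hcases : l = 5 ∧ j = 0 ∨ l = 13 ∧ j = 1 := by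
    rcases (by omega : j = 0 ∨ j = 1 ∨ j = 2 ∨ j = 3) with rfl | rfl | rfl | rfl <;> norm_num at hdvd
    · have h : l ∣ 2 ^ 4 * 5 := by norm_num; exact hdvd
      rcases hl.dvd_mul.mp h with h | h
      · exact absurd ((Nat.prime_dvd_prime_iff_eq hl Nat.prime_two).mp (hl.dvd_of_dvd_pow h)) hl2
      · exact Or.inl ⟨(Nat.prime_dvd_prime_iff_eq hl (by norm_num)).mp h, rfl⟩
    · have h : l ∣ 2 * 3 * 13 := by norm_num; exact hdvd
      rcases hl.dvd_mul.mp h with h | h
      · rcases hl.dvd_mul.mp h with h | h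
        · exact absurd ((Nat.prime_dvd_prime_iff_eq hl Nat.prime_two).mp h) hl2
        · exact absurd ((Nat.prime_dvd_prime_iff_eq hl Nat.prime_three).mp h) hl3
      · exact Or.inr ⟨(Nat.prime_dvd_prime_iff_eq hl (by norm_num)).mp h, rfl⟩
    · have h : l ∣ 2 ^ 3 * 3 ^ 2 := by norm_num; exact hdvd
      rcases hl.dvd_mul.mp h with h | h
      · exact absurd ((Nat.prime_dvd_prime_iff_eq hl Nat.prime_two).mp (hl.dvd_of_dvd_pow h)) hl2
      · exact absurd ((Nat.prime_dvd_prime_iff_eq hl Nat.prime_three).mp (hl.dvd_of_dvd_pow h)) hl3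
    · have h : l ∣ 2 * 3 ^ 3 := by norm_num; exact hdvd
      rcases hl.dvd_mul.mp h with h | h
      · exact absurd ((Nat.prime_dvd_prime_iff_eq hl Nat.prime_two).mp h) hl2
      · exact absurd ((Nat.prime_dvd_prime_iff_eq hl Nat.prime_three).mp (hl.dvd_of_dvd_pow h)) hl3
  -- the moved part
  let f : W →+ W := DistribSMul.toAddMonoidHom W x - AddMonoidHom.id W
  let U : AddSubgroup W := f.range
  have hker : f.ker = F := by
    ext w
    show x • w - w = 0 ↔ _
    rw [sub_eq_zero]
    rfl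
  have hUF : ∀ u ∈ U, x • u = u → u = 0 := by
    rintro _ ⟨w, rfl⟩ hfix
    have hit : ∀ i : ℕ, (x ^ i) • w = w + i • f w := fun i => by
      induction i with
      | zero => simp
      | succ i ih =>
        rw [pow_succ', mul_smul, ih, smul_add,
          show x • (i • f w) = i • (x • f w) from (DistribSMul.toAddMonoidHom W x).map_nsmul _ _,
          hfix, succ_nsmul]
        show x • w + i • f w = w + (i • f w + (x • w - w))
        abel
    have h := hit l
    rw [hxZ.2.2, one_smul, eq_comm, add_eq_left] at h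
    have h3 := hexp (f w)
    rw [← addOrderOf_dvd_iff_nsmul_eq_zero] at h h3
    exact AddMonoid.addOrderOf_eq_one_iff.mp (Nat.eq_one_of_dvd_coprimes
      ((Nat.coprime_primes hl Nat.prime_three).mpr hl3) h h3)
  have hUcard : Nat.card U * 3 ^ j = 81 := by
    rw [← hW, f.ker.card_eq_card_quotient_mul_card_addSubgroup, hker, hFj]
    congr 1
    rw [← hker]
    exact (Nat.card_congr (QuotientAddGroup.quotientKerEquivRange f).toEquiv).symm
  have hsplit : ∀ c : H, (∀ u ∈ U, c • u = u) → (∀ w ∈ F, c • w = w) → c = 1 := by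
    intro c hcU hcF
    have htop : fixSub c = (⊤ : AddSubgroup W) := by
      refine AddSubgroup.eq_top_of_card_eq _ (le_antisymm (AddSubgroup.card_le_card_addGroup _) ?_)
      rw [hW, ← hUcard, ← hFj, ← Nat.card_prod]
      refine Nat.card_le_card_of_injective (fun p : U × F =>
        (⟨p.1 + p.2, mem_fixSub.mpr (by rw [smul_add, hcU _ p.1.2, hcF _ p.2.2])⟩ : fixSub (V := W) c))
        fun p q h => ?_
      have h' : (p.1 : W) - q.1 = q.2 - p.2 := by
        rw [sub_eq_sub_iff_add_eq_add, add_comm (q.2 : W)]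
        exact congrArg Subtype.val h
      have h0 : (p.1 : W) - q.1 = 0 := hUF _ (U.sub_mem p.1.2 q.1.2)
        (by rw [h']; exact F.sub_mem q.2.2 p.2.2)
      exact Prod.ext (Subtype.ext (sub_eq_zero.mp h0))
        (Subtype.ext (sub_eq_zero.mp (h'.symm.trans h0)).symm)
    refine eq_of_smul_eq_smul (α := W) fun w => ?_
    rw [one_smul]
    exact mem_fixSub.mp (htop ▸ AddSubgroup.mem_top w)
  let C : Subgroup H := Subgroup.centralizer {x}
  have hCx : ∀ c ∈ C, ∀ w : W, c • x • w = x • c • w := fun c hc w => by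
    rw [← mul_smul, ← mul_smul, Subgroup.mem_centralizer_singleton_iff.mp hc]
  have hCU : ∀ c : C, ∀ u ∈ U, c • u ∈ U := by
    rintro c _ ⟨w, rfl⟩
    refine ⟨(c : H) • w, ?_⟩
    show x • ((c : H) • w) - (c : H) • w = (c : H) • (x • w - w)
    rw [smul_sub, hCx c c.2]
  have hCF : ∀ c ∈ C, ∀ w ∈ F, c • w = w := by
    intro c hc w hw
    by_contra hne
    have hw0 : w ≠ 0 := fun h => hne (by rw [h, smul_zero])
    have hcw : c • w ∈ F := by
      show x • c • w = c • w
      rw [← hCx c hc, mem_fixSub.mp hw]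
    have hccw : c • c • w ∈ F := by
      show x • c • c • w = c • c • w
      rw [← hCx c hc, mem_fixSub.mp hcw]
    have h4 : ({0, w, c • w, c • c • w} : Finset W).card = 4 := by
      have a1 : (0 : W) ≠ c • w := fun h => hw0 ((smul_eq_zero_iff_eq c).mp h.symm)
      have a2 : (0 : W) ≠ c • c • w := fun h => a1 ((smul_eq_zero_iff_eq c).mp h.symm).symm
      have a3 : w ≠ c • c • w := fun h => hne (fixed_of_sq hH h.symm)
      have a4 : c • w ≠ c • c • w := fun h => hne (MulAction.injective c h).symm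
      simp [Ne.symm hw0, a1, a2, a3, a4, Ne.symm hne]
    have h5 : ({0, w, c • w, c • c • w} : Finset W).card ≤ Nat.card F := by
      rw [← Nat.card_eq_finsetCard]
      refine Nat.card_le_card_of_injective (fun y => (⟨y.1, ?_⟩ : F))
        fun a b h => Subtype.ext (congrArg Subtype.val h : _)
      have := y.2
      simp only [Finset.mem_insert, Finset.mem_singleton] at this
      rcases this with h | h | h | h <;> rw [h]
      exacts [F.zero_mem, hw, hcw, hccw]
    rw [h4, hFj] at h5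
    rcases hcases with ⟨-, rfl⟩ | ⟨-, rfl⟩ <;> norm_num at h5
  have hfree : ∀ c : C, ∀ u ∈ U, u ≠ 0 → c • u = u → c = 1 := by
    intro c u hu hu0 hcu
    let U1 : AddSubgroup W := fixSub (c : H) ⊓ U
    have hxC : x ∈ C := Subgroup.mem_centralizer_singleton_iff.mpr rfl
    have hx1 : ∀ g : Subgroup.zpowers x, ∀ y ∈ U1, g • y ∈ U1 := by
      rintro ⟨g, hg⟩ y hy
      have hgC : g ∈ C := (Subgroup.zpowers_le.mpr hxC) hg
      refine ⟨?_, hCU ⟨g, hgC⟩ y hy.2⟩
      show (c : H) • g • y = g • y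
      obtain ⟨i, rfl⟩ := Subgroup.mem_zpowers_iff.mp hg
      have hcomm : Commute (c : H) (x ^ i) :=
        Commute.zpow_right (Subgroup.mem_centralizer_singleton_iff.mp c.2) i
      rw [← mul_smul, hcomm.eq, mul_smul, mem_fixSub.mp hy.1]
    let := subAction U1 hx1
    have hfp : Nat.card (fixedPoints (Subgroup.zpowers x) U1) = 1 := by
      refine Nat.card_eq_one_iff_exists.mpr ⟨⟨0, fun g => smul_zero g⟩, fun y => ?_⟩
      exact Subtype.ext (Subtype.ext (hUF _ y.1.2.2
        (congrArg Subtype.val (y.2 ⟨x, Subgroup.mem_zpowers x⟩))))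
    have hm := hX.card_modEq_card_fixedPoints U1
    rw [hfp] at hm
    have hd : Nat.card U1 ∣ Nat.card U := AddSubgroup.card_dvd_of_le inf_le_right
    obtain ⟨i, hi, hU1⟩ : ∃ i, i ≤ 4 - j ∧ Nat.card U1 = 3 ^ i := by
      refine (Nat.dvd_prime_pow Nat.prime_three).mp (hd.trans (dvd_of_eq ?_))
      refine Nat.eq_of_mul_eq_mul_right (pow_pos (by norm_num : 0 < 3) j) ?_
      rw [hUcard, ← pow_add, Nat.sub_add_cancel hj]; norm_num
    have hne : Nat.card U1 ≠ 1 := fun h => hu0 ((AddSubgroup.eq_bot_iff_forall _).mp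
      (AddSubgroup.eq_bot_of_card_eq U1 h) u ⟨hcu, hu⟩)
    have hfull : Nat.card U1 = Nat.card U := by
      rw [hU1] at hm hne ⊢
      rcases hcases with ⟨rfl, rfl⟩ | ⟨rfl, rfl⟩
      · rcases (by omega : i = 0 ∨ i = 1 ∨ i = 2 ∨ i = 3 ∨ i = 4) with rfl|rfl|rfl|rfl|rfl <;>
          simp_all [Nat.ModEq]
      · rcases (by omega : i = 0 ∨ i = 1 ∨ i = 2 ∨ i = 3) with rfl|rfl|rfl|rfl <;>
          simp_all [Nat.ModEq] <;> omega
    have heq : U1 = U := AddSubgroup.eq_of_le_of_card_ge inf_le_right hfull.ge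
    exact Subtype.ext (hsplit c (fun y hy => (heq.symm ▸ hy : y ∈ U1).1) (hCF c c.2))
  have hCdvd : Nat.card C ∣ Nat.card U - 1 := by
    have h := free_dvd (G := C) {y : W | y ∈ U ∧ y ≠ 0}
      (fun c y hy => ⟨hCU c y hy.1, fun h => hy.2 ((smul_eq_zero_iff_eq c).mp h)⟩)
      fun c y hy h => hfree c y hy.1 hy.2 h
    have he : Nat.card {y : W | y ∈ U ∧ y ≠ 0} = Nat.card U - 1 := by
      rw [Nat.card_congr (β := {y : U // y ≠ 0})
        { toFun := fun y => ⟨⟨y.1, y.2.1⟩, fun h => y.2.2 (congrArg Subtype.val h)⟩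
          invFun := fun y => ⟨y.1.1, y.1.2, fun h => y.2 (Subtype.ext h)⟩
          left_inv := fun _ => rfl
          right_inv := fun _ => rfl }]
      have := Fintype.ofFinite U
      rw [Nat.card_eq_fintype_card, Fintype.card_subtype_compl, Fintype.card_subtype_eq,
        Nat.card_eq_fintype_card]
    exact he ▸ h
  have hCodd : Odd (Nat.card C) := odd_subgroup hH C
  have hZC : Z ≤ C := fun z hz => Subgroup.mem_centralizer_singleton_iff.mpr (hz.2.1 x hxZ.1)
  have hZl : Nat.card Z ∣ l ∧ Nat.card C ∣ l := by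
    have hC : Nat.card C ∣ l := by
      rcases hcases with ⟨rfl, rfl⟩ | ⟨rfl, rfl⟩
      · have : Nat.card U - 1 = 2 ^ 4 * 5 := by norm_num at hUcard ⊢; omega
        exact (Nat.Coprime.pow_right 4 (Nat.coprime_two_right.mpr hCodd)).dvd_of_dvd_mul_left
          (this ▸ hCdvd)
      · have : Nat.card U - 1 = 2 * 13 := by norm_num at hUcard ⊢; omega
        exact (Nat.coprime_two_right.mpr hCodd).dvd_of_dvd_mul_left (this ▸ hCdvd)
    exact ⟨(Subgroup.card_dvd_of_le hZC).trans hC, hC⟩
  have hZcard : Nat.card Z = l :=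
    ((Nat.dvd_prime hl).mp hZl.1).resolve_left fun h =>
      hx ((Subgroup.eq_bot_iff_forall _).mp (Subgroup.card_eq_one.mp h) x hxZ)
  have := hZn
  let φ : H →* MulAut Z := MulAut.conjNormal
  have hrange : Nat.card φ.range ∣ l - 1 := by
    have : IsCyclic Z := isCyclic_of_prime_card hZcard
    have := φ.range.card_subgroup_dvd_card
    rwa [IsCyclic.card_mulAut, hZcard, Nat.totient_prime hl] at this
  have hkerC : φ.ker ≤ C := fun g hg => by
    refine Subgroup.mem_centralizer_singleton_iff.mpr ?_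
    have h := congrArg (fun e : MulAut Z => ((e ⟨x, hxZ⟩ : Z) : H)) (MonoidHom.mem_ker.mp hg)
    simp only [φ, MulAut.one_apply, MulAut.conjNormal_apply] at h
    exact (mul_inv_eq_iff_eq_mul.mp h)
  have hker_le : Nat.card φ.ker ≤ l :=
    Nat.le_of_dvd hl.pos ((Subgroup.card_dvd_of_le hkerC).trans hZl.2)
  have hcardH : Nat.card H = Nat.card φ.range * Nat.card φ.ker := by
    rw [φ.ker.card_eq_card_quotient_mul_card_subgroup]
    congr 1
    exact Nat.card_congr (QuotientGroup.quotientKerEquivRange φ).toEquiv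
  have hrodd : Odd (Nat.card φ.range) := odd_range hH φ
  rw [hcardH]
  rcases hcases with ⟨rfl, -⟩ | ⟨rfl, -⟩
  · have h1 : Nat.card φ.range ∣ 1 :=
      (Nat.Coprime.pow_right 2 (Nat.coprime_two_right.mpr hrodd)).dvd_of_dvd_mul_left
        (k := Nat.card φ.range) (m := 2 ^ 2) (n := 1) (by norm_num; exact hrange)
    rw [Nat.dvd_one.mp h1]; omega
  · have h1 : Nat.card φ.range ∣ 3 :=
      (Nat.Coprime.pow_right 2 (Nat.coprime_two_right.mpr hrodd)).dvd_of_dvd_mul_left
        (k := Nat.card φ.range) (m := 2 ^ 2) (n := 3) (by norm_num; exact hrange)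
    calc _ ≤ 3 * 13 := Nat.mul_le_mul (Nat.le_of_dvd (by norm_num) h1) hker_le
      _ = 39 := by norm_num

/-- The bound used for the action on a symplectic module of order `e²`. -/
def orderBound (e : ℕ) : ℕ :=
  if e = 3 then 1 else if e = 5 then 15 else if e = 7 then 63 else if e = 9 then 39 else e ^ 4

theorem card_le_orderBound [FaithfulSMul H W] (hcr : CR H W) (hH : Odd (Nat.card H))
    (hs : Group.IsSolvable H) {e n : ℕ} (IH : GoodUpTo.{u} n) (hn : Nat.card W ≤ n)
    (hW : Nat.card W = e * e) : Nat.card H ≤ orderBound e := by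
  have hsq : ∀ r : ℕ, r.Prime → e = r → Nat.card H ∣ (r * r - 1) * (r * r - r) := fun r hr he =>
    card_dvd_of_square hr (he ▸ hW) fun w => nsmul_eq_zero_of_cr hcr hr (k := 2) (by
      have := card_nsmul_eq_zero' (x := w)
      rw [hW, he, ← sq] at this
      exact this)
  have hcop : ∀ k, (Nat.card H).Coprime (2 ^ k) := fun k =>
    (Nat.coprime_two_right.mpr hH).pow_right k
  unfold orderBound
  split_ifs with h3 h5 h7 h9
  · have hd : Nat.card H ∣ 3 :=
      (hcop 4).dvd_of_dvd_mul_left (by norm_num; simpa using hsq 3 Nat.prime_three h3)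
    rcases (Nat.dvd_prime Nat.prime_three).mp hd with h | h
    · exact h.le
    · have hp : IsPGroup 3 (⊤ : Subgroup H) :=
        IsPGroup.of_card (n := 1) (by rw [Subgroup.card_top, h, pow_one])
      have := pgroup_bot hcr (k := 2) Nat.prime_three (by rw [hW, h3]; norm_num) ⊤ hp
      rw [← Subgroup.card_top, this, Subgroup.card_bot]
  · exact Nat.le_of_dvd (by norm_num)
      ((hcop 5).dvd_of_dvd_mul_left (by norm_num; simpa using hsq 5 (by norm_num) h5))
  · exact Nat.le_of_dvd (by norm_num)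
      ((hcop 5).dvd_of_dvd_mul_left (by norm_num; simpa using hsq 7 (by norm_num) h7))
  · exact card_le_of_81 hcr hH hs (by rw [hW, h9])
  · obtain ⟨v, w, hvw⟩ := IH H W hn hH hs hcr
    have : e ^ 4 = Nat.card (W × W) := by rw [Nat.card_prod, hW]; ring
    rw [this]
    refine Nat.card_le_card_of_injective (fun g : H => (g • v, g • w)) fun g h hgh => ?_
    refine eq_of_smul_eq_smul (α := W) fun x => ?_
    have := hvw (h⁻¹ * g) (by rw [mul_smul, inv_smul_eq_iff]; exact congrArg Prod.fst hgh)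
      (by rw [mul_smul, inv_smul_eq_iff]; exact congrArg Prod.snd hgh) x
    rwa [mul_smul, inv_smul_eq_iff] at this

end Module

theorem pow_nine_le (e : ℕ) (he : 21 ≤ e) : e ^ 9 ≤ 4 ^ e := by
  induction e, he using Nat.le_induction with
  | base => norm_num
  | succ e he ih =>
    have h1 : (21 * (e + 1)) ^ 9 ≤ (22 * e) ^ 9 := Nat.pow_le_pow_left (by omega) 9
    rw [mul_pow, mul_pow] at h1
    have h2 : (22 : ℕ) ^ 9 ≤ 4 * 21 ^ 9 := by norm_num
    rw [pow_succ 4 e]
    have h3 : 21 ^ 9 * (e + 1) ^ 9 ≤ 21 ^ 9 * (4 ^ e * 4) := by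
      calc 21 ^ 9 * (e + 1) ^ 9 ≤ 22 ^ 9 * e ^ 9 := h1
        _ ≤ (4 * 21 ^ 9) * 4 ^ e := Nat.mul_le_mul h2 ih
        _ = 21 ^ 9 * (4 ^ e * 4) := by ring
    exact Nat.le_of_mul_le_mul_left h3 (by norm_num)

/-- The arithmetic of the count. -/
theorem arith {e n q X : ℕ} (hodd : Odd e) (he : 1 < e) (hn : e ≤ n) (hq : 2 ≤ q)
    (hdvd : ∀ r : ℕ, r.Prime → r ∣ e → r ∣ q - 1) (hX : X ≤ orderBound e) :
    (e * e * X) ^ 3 ≤ (q ^ n) ^ 2 ∧ (q - 1) * (q - 2) * (e * e * X) ≤ q ^ n := by
  have hqn : q ^ e ≤ q ^ n := Nat.pow_le_pow_right (by omega) hn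
  have hstep : ∀ r : ℕ, r.Prime → r ∣ e → r + 1 ≤ q := fun r hr hre => by
    have := Nat.le_of_dvd (by omega) (hdvd r hr hre)
    omega
  suffices h : (e * e * orderBound e) ^ 3 ≤ (q ^ e) ^ 2 ∧
      (q - 1) * (q - 2) * (e * e * orderBound e) ≤ q ^ e by
    exact ⟨(Nat.pow_le_pow_left (Nat.mul_le_mul_left _ hX) 3).trans
        (h.1.trans (Nat.pow_le_pow_left hqn 2)),
      (Nat.mul_le_mul_left _ (Nat.mul_le_mul_left _ hX)).trans (h.2.trans hqn)⟩
  have h12 : (q - 1) * (q - 2) ≤ q ^ 2 := by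
    rw [sq]; exact Nat.mul_le_mul (by omega) (by omega)
  have main : ∀ b, 2 ≤ e → b ≤ q → (e * e * orderBound e) ^ 3 ≤ (b ^ e) ^ 2 →
      e * e * orderBound e ≤ b ^ (e - 2) →
      (e * e * orderBound e) ^ 3 ≤ (q ^ e) ^ 2 ∧
        (q - 1) * (q - 2) * (e * e * orderBound e) ≤ q ^ e := fun b h2 hb ha hc => by
    refine ⟨ha.trans (Nat.pow_le_pow_left (Nat.pow_le_pow_left hb e) 2), ?_⟩
    calc _ ≤ q ^ 2 * q ^ (e - 2) :=
          Nat.mul_le_mul h12 (hc.trans (Nat.pow_le_pow_left hb _))
      _ = q ^ e := by rw [← pow_add]; congr 1; omega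
  rcases le_or_gt 21 e with h21 | h21
  · have hq4 : 4 ≤ q := by
      obtain ⟨r, hr, hre⟩ := Nat.exists_prime_and_dvd he.ne'
      have := hstep r hr hre
      have : r ≠ 2 := fun h => hodd.not_two_dvd_nat (h ▸ hre)
      have := hr.two_le
      omega
    have hb : orderBound e = e ^ 4 := by
      unfold orderBound; rw [if_neg (by omega), if_neg (by omega), if_neg (by omega),
        if_neg (by omega)]
    have h9 := pow_nine_le e h21
    refine main 4 (by omega) hq4 ?_ ?_ <;> rw [hb]
    · calc _ = (e ^ 9) ^ 2 := by ring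
        _ ≤ _ := Nat.pow_le_pow_left h9 2
    · refine (Nat.mul_le_mul_left_iff (show 0 < 4 ^ 2 by norm_num)).mp ?_
      rw [← pow_add, show 2 + (e - 2) = e by omega]
      refine le_trans ?_ h9
      calc 4 ^ 2 * (e * e * e ^ 4) ≤ e ^ 3 * (e * e * e ^ 4) :=
            Nat.mul_le_mul_right _ (le_trans (by norm_num) (Nat.pow_le_pow_left h21 3))
        _ = e ^ 9 := by ring
  · obtain ⟨i, rfl⟩ := hodd
    rcases (by omega : i = 1 ∨ i = 2 ∨ i = 3 ∨ i = 4 ∨ i = 5 ∨ i = 6 ∨ i = 7 ∨ i = 8 ∨ i = 9 ∨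
      i = 10) with rfl|rfl|rfl|rfl|rfl|rfl|rfl|rfl|rfl|rfl <;> norm_num [orderBound] at *
    · have h4 := hstep 3 Nat.prime_three (by norm_num)
      refine ⟨le_trans (by norm_num) (Nat.pow_le_pow_left (Nat.pow_le_pow_left h4 3) 2), ?_⟩
      obtain ⟨m, rfl⟩ : ∃ m, q = m + 4 := ⟨q - 4, by omega⟩
      simp only [show m + 4 - 1 = m + 3 from rfl, show m + 4 - 2 = m + 2 from rfl]
      nlinarith [sq_nonneg (m : ℤ), Nat.zero_le (m * m * m)]
    · have h6 := hstep 5 (by norm_num) (by norm_num)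
      refine ⟨le_trans (by norm_num) (Nat.pow_le_pow_left (Nat.pow_le_pow_left h6 5) 2), ?_⟩
      rcases (by omega : q = 6 ∨ q = 7 ∨ 8 ≤ q) with rfl | rfl | h8
      · norm_num
      · norm_num
      · calc _ ≤ q ^ 2 * q ^ 3 := Nat.mul_le_mul h12
              (le_trans (by norm_num) (Nat.pow_le_pow_left h8 3))
          _ = q ^ 5 := by ring
    · exact main 8 (hstep 7 (by norm_num) (by norm_num)) (by norm_num) (by norm_num)
    · exact main 4 (hstep 3 Nat.prime_three (by norm_num)) (by norm_num) (by norm_num)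
    · exact main 12 (hstep 11 (by norm_num) (by norm_num)) (by norm_num) (by norm_num)
    · exact main 14 (hstep 13 (by norm_num) (by norm_num)) (by norm_num) (by norm_num)
    · exact main 6 (hstep 5 (by norm_num) (by norm_num)) (by norm_num) (by norm_num)
    · exact main 18 (hstep 17 (by norm_num) (by norm_num)) (by norm_num) (by norm_num)
    · exact main 20 (hstep 19 (by norm_num) (by norm_num)) (by norm_num) (by norm_num)

end Cfsg.Agent.OddOrbit
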