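import Cfsg.Agent.OddOrbit.Imprimitive
import Mathlib.Algebra.Ring.Subring.Basic

/-!
A normal abelian subgroup of an irreducible primitive group generates a field.
-/

set_option autoImplicit false

namespace Cfsg.Agent.OddOrbit

universe u

variable {G V : Type u} [Group G] [AddCommGroup V] [DistribMulAction G V]

/-- The endomorphism given by a group element. -/
def rho (g : G) : AddMonoid.End V := DistribMulAction.toAddMonoidEnd G V g

theorem rho_apply (g : G) (x : V) : (rho g : AddMonoid.End V) x = g • x := rfl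

theorem rho_one : (rho (1 : G) : AddMonoid.End V) = 1 := map_one (DistribMulAction.toAddMonoidEnd G V)

theorem rho_mul (g h : G) : (rho (g * h) : AddMonoid.End V) = rho g * rho h :=
  map_mul (DistribMulAction.toAddMonoidEnd G V) g h

theorem rho_inv_mul (g : G) : (rho g⁻¹ : AddMonoid.End V) * rho g = 1 := by
  rw [← rho_mul, inv_mul_cancel, rho_one]

theorem rho_mul_inv (g : G) : (rho g : AddMonoid.End V) * rho g⁻¹ = 1 := by
  rw [← rho_mul, mul_inv_cancel, rho_one]

theorem rho_injective [FaithfulSMul G V] : Function.Injective (rho : G → AddMonoid.End V) :=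
  fun g h hgh => eq_of_smul_eq_smul (α := V) fun x => congrArg (fun f : AddMonoid.End V => f x) hgh

/-- The ring of endomorphisms generated by a subgroup. -/
def ringOf (V : Type u) [AddCommGroup V] [DistribMulAction G V] (A : Subgroup G) :
    Subring (AddMonoid.End V) :=
  Subring.closure ((rho : G → AddMonoid.End V) '' A)

theorem rho_mem_ringOf {A : Subgroup G} {a : G} (ha : a ∈ A) :
    (rho a : AddMonoid.End V) ∈ ringOf V A :=
  Subring.subset_closure ⟨a, ha, rfl⟩

theorem ringOf_comm {A : Subgroup G} (hA : ∀ a ∈ A, ∀ b ∈ A, a * b = b * a)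
    {r s : AddMonoid.End V} (hr : r ∈ ringOf V A) (hs : s ∈ ringOf V A) : r * s = s * r := by
  have h1 : ∀ r ∈ ringOf V A, ∀ a ∈ A, rho a * r = r * rho a := fun r hr a ha => by
    have : ringOf V A ≤ Subring.centralizer {rho a} := Subring.closure_le.mpr <| by
      rintro _ ⟨b, hb, rfl⟩
      refine Subring.mem_centralizer_iff.mpr ?_
      rintro _ rfl
      rw [← rho_mul, ← rho_mul, hA a ha b hb]
    exact Subring.mem_centralizer_iff.mp (this hr) _ rfl
  have h2 : ringOf V A ≤ Subring.centralizer {r} := Subring.closure_le.mpr <| by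
    rintro _ ⟨b, hb, rfl⟩
    refine Subring.mem_centralizer_iff.mpr ?_
    intro z hz
    rw [Set.mem_singleton_iff.mp hz]
    exact (h1 r hr b hb).symm
  exact Subring.mem_centralizer_iff.mp (h2 hs) _ rfl

theorem ringOf_conj {A : Subgroup G} [A.Normal] (g : G) {r : AddMonoid.End V}
    (hr : r ∈ ringOf V A) : rho g * r * rho g⁻¹ ∈ ringOf V A := by
  induction hr using Subring.closure_induction with
  | mem x hx =>
    obtain ⟨a, ha, rfl⟩ := hx
    rw [← rho_mul, ← rho_mul]
    exact rho_mem_ringOf (‹A.Normal›.conj_mem a ha g)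
  | zero => rw [mul_zero, zero_mul]; exact (ringOf V A).zero_mem
  | one => rw [mul_one, rho_mul_inv]; exact (ringOf V A).one_mem
  | add x y _ _ hx hy => rw [mul_add, add_mul]; exact (ringOf V A).add_mem hx hy
  | neg x _ hx => rw [mul_neg, neg_mul]; exact (ringOf V A).neg_mem hx
  | mul x y _ _ hx hy =>
    have : rho g * (x * y) * rho g⁻¹ = (rho g * x * rho g⁻¹) * (rho g * y * rho g⁻¹) := by
      simp only [mul_assoc]
      rw [← mul_assoc (rho g⁻¹) (rho g), rho_inv_mul, one_mul]
    rw [this]
    exact (ringOf V A).mul_mem hx hy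

/-- Commuting nilpotent endomorphisms kill a common nonzero vector. -/
theorem exists_common_kernel [Nontrivial V] (s : Finset (AddMonoid.End V))
    (hc : ∀ a ∈ s, ∀ b ∈ s, a * b = b * a) (hn : ∀ a ∈ s, ∃ k : ℕ, a ^ k = 0) :
    ∃ x : V, x ≠ 0 ∧ ∀ a ∈ s, a x = 0 := by
  classical
  induction s using Finset.induction_on with
  | empty => obtain ⟨x, hx⟩ := exists_ne (0 : V); exact ⟨x, hx, by simp⟩
  | insert r s _ ih =>
    obtain ⟨x, hx, hxs⟩ := ih (fun a ha b hb => hc a (Finset.mem_insert_of_mem ha) b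
      (Finset.mem_insert_of_mem hb)) fun a ha => hn a (Finset.mem_insert_of_mem ha)
    obtain ⟨k, hk⟩ := hn r (Finset.mem_insert_self r s)
    have hex : ∃ j : ℕ, (r ^ j) x = 0 := ⟨k, by rw [hk]; rfl⟩
    have h0 := Nat.find_spec hex
    match hj : Nat.find hex, h0 with
    | 0, h0 => rw [pow_zero] at h0; exact absurd h0 hx
    | j + 1, h0 =>
      refine ⟨(r ^ j) x, Nat.find_min hex (by omega), fun a ha => ?_⟩
      rcases Finset.mem_insert.mp ha with rfl | has
      · rw [pow_succ'] at h0; exact h0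
      · have : a * r ^ j = r ^ j * a := (Commute.pow_right
          (hc a ha r (Finset.mem_insert_self r s)) j).eq
        calc a ((r ^ j) x) = (a * r ^ j) x := rfl
          _ = (r ^ j) (a x) := by rw [this]; rfl
          _ = 0 := by rw [hxs a has, map_zero]

theorem exists_idem_pow {R : Type*} [Monoid R] [Finite R] (r : R) :
    ∃ k : ℕ, 0 < k ∧ r ^ k * r ^ k = r ^ k := by
  obtain ⟨i, j, hne, he⟩ := Finite.exists_ne_map_eq_of_infinite (fun m : ℕ => r ^ m)
  obtain ⟨a, d, hd, had⟩ : ∃ a d : ℕ, 0 < d ∧ r ^ (a + d) = r ^ a := by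
    rcases Nat.lt_or_gt_of_ne hne with h | h
    · exact ⟨i, j - i, by omega, by rw [Nat.add_sub_cancel' h.le]; exact he.symm⟩
    · exact ⟨j, i - j, by omega, by rw [Nat.add_sub_cancel' h.le]; exact he⟩
  have hstep : ∀ m, a ≤ m → ∀ t, r ^ (m + t * d) = r ^ m := by
    intro m hm t
    induction t with
    | zero => simp
    | succ t ih =>
      rw [show m + (t + 1) * d = (a + d) + (m - a + t * d) by
        rw [Nat.succ_mul]; omega, pow_add, had, ← pow_add,
        show a + (m - a + t * d) = m + t * d by omega, ih]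
  refine ⟨d * (a + 1), Nat.mul_pos hd (by omega), ?_⟩
  rw [← pow_add]
  have h1 : a ≤ d * (a + 1) := le_trans (by omega) (Nat.le_mul_of_pos_left (a + 1) hd)
  have := hstep (d * (a + 1)) h1 (a + 1)
  rwa [mul_comm (a + 1) d] at this

variable [Finite G] [Finite V]

theorem finite_end : Finite (AddMonoid.End V) :=
  Finite.of_injective (fun f : AddMonoid.End V => (⇑f : V → V)) DFunLike.coe_injective

/-- Either there is a pair, or a normal abelian subgroup generates a ring without zero divisors
acting semiregularly. -/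
theorem hasPair_or_field {n : ℕ} (IH : GoodUpTo.{u} n) (hV : Nat.card V ≤ n + 1)
    (hG : Odd (Nat.card G)) (hs : Group.IsSolvable G)
    (hirr : ∀ U : AddSubgroup V, (∀ a : G, ∀ v ∈ U, a • v ∈ U) → U = ⊥ ∨ U = ⊤) [Nontrivial V]
    (A : Subgroup G) [A.Normal] (hA : ∀ a ∈ A, ∀ b ∈ A, a * b = b * a) :
    HasPair G V ∨ ∀ r ∈ ringOf V A, r ≠ 0 → ∀ x : V, r x = 0 → x = 0 := by
  classical
  have := finite_end (V := V)
  let R := ringOf V A
  have hconjx : ∀ (g : G) (r : AddMonoid.End V) (x : V),
      (rho g * r * rho g⁻¹ : AddMonoid.End V) (g • x) = g • r x := fun g r x => by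
    show g • r (g⁻¹ • g • x) = g • r x
    rw [inv_smul_smul]
  -- no nilpotent elements
  have hred : ∀ r ∈ R, ∀ k : ℕ, r ^ k = 0 → r = 0 := by
    let J : Finset (AddMonoid.End V) :=
      (Set.toFinite {r : AddMonoid.End V | r ∈ R ∧ ∃ k : ℕ, r ^ k = 0}).toFinset
    have hJ : ∀ r, r ∈ J ↔ r ∈ R ∧ ∃ k : ℕ, r ^ k = 0 := fun r => by simp [J]
    obtain ⟨x, hx, hxJ⟩ := exists_common_kernel J
      (fun a ha b hb => ringOf_comm hA ((hJ a).mp ha).1 ((hJ b).mp hb).1)
      fun a ha => ((hJ a).mp ha).2
    let U : AddSubgroup V :=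
      { carrier := {y | ∀ a ∈ J, a y = 0}
        add_mem' := fun hy hz a ha => by rw [map_add, hy a ha, hz a ha, add_zero]
        zero_mem' := fun a _ => map_zero _
        neg_mem' := fun hy a ha => by rw [map_neg, hy a ha, neg_zero] }
    have hU : ∀ g : G, ∀ y ∈ U, g • y ∈ U := fun g y hy a ha => by
      have hmem : rho g⁻¹ * a * rho g ∈ J := by
        obtain ⟨haR, k, hk⟩ := (hJ a).mp ha
        refine (hJ _).mpr ⟨?_, k, ?_⟩
        · have := ringOf_conj g⁻¹ haR
          rwa [inv_inv] at this
        · have hp : ∀ m : ℕ, (rho g⁻¹ * a * rho g) ^ m = rho g⁻¹ * a ^ m * rho g := by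
            intro m
            induction m with
            | zero => rw [pow_zero, pow_zero, mul_one, rho_inv_mul]
            | succ m ih =>
              rw [pow_succ, pow_succ, ih]
              simp only [mul_assoc]
              rw [← mul_assoc (rho g) (rho g⁻¹), rho_mul_inv, one_mul]
          rw [hp, hk, mul_zero, zero_mul]
      have h1 : g⁻¹ • a (g • y) = 0 := hy _ hmem
      exact (smul_eq_zero_iff_eq _).mp h1
    intro r hr k hk
    rcases hirr U hU with h | h
    · exact absurd ((AddSubgroup.eq_bot_iff_forall _).mp h x hxJ) hx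
    · ext y
      exact ((h.symm ▸ AddSubgroup.mem_top y : y ∈ U)) r ((hJ r).mpr ⟨hr, k, hk⟩)
  by_cases hfield : ∀ r ∈ R, r ≠ 0 → ∀ x : V, r x = 0 → x = 0
  · exact Or.inr hfield
  refine Or.inl ?_
  simp only [not_forall] at hfield
  obtain ⟨r, hr, hr0, x, hrx, hx⟩ := hfield
  -- a nontrivial idempotent
  obtain ⟨k, hk, hidem⟩ := exists_idem_pow r
  have he0 : r ^ k ≠ 0 := fun h => hr0 (hred r hr k h)
  have he1 : r ^ k ≠ 1 := fun h => by
    obtain ⟨j, rfl⟩ := Nat.exists_eq_succ_of_ne_zero hk.ne'
    have : (r ^ (j + 1)) x = 0 := by rw [pow_succ]; show (r ^ j) (r x) = 0; rw [hrx, map_zero]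
    rw [h] at this
    exact hx this
  let At : AddMonoid.End V → Prop := fun e => e ∈ R ∧ e * e = e ∧ e ≠ 0 ∧
    ∀ f ∈ R, f * f = f → e * f = e ∨ e * f = 0
  let ι := {e : AddMonoid.End V // At e}
  let _ : Fintype ι := Fintype.ofFinite ι
  have horth : ∀ e f : ι, e ≠ f → e.1 * f.1 = 0 := fun e f hef => by
    rcases e.2.2.2.2 f.1 f.2.1 f.2.2.1 with h | h
    · rcases f.2.2.2.2 e.1 e.2.1 e.2.2.1 with h' | h'
      · exact absurd (Subtype.ext (h.symm.trans
          ((ringOf_comm hA e.2.1 f.2.1).trans h'))) hef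
      · rw [ringOf_comm hA e.2.1 f.2.1, h']
    · exact h
  have hsum : ∑ e : ι, e.1 = (1 : AddMonoid.End V) := by
    set s := ∑ e : ι, e.1 with hsdef
    have hsR : s ∈ R := Subring.sum_mem _ fun e _ => e.2.1
    have hse : ∀ e : ι, s * e.1 = e.1 := fun e => by
      rw [hsdef, Finset.sum_mul, Finset.sum_eq_single e (fun f _ hf => horth f e hf) (by simp)]
      exact e.2.2.1
    have hss : s * s = s := by
      conv_lhs => arg 2; rw [hsdef]
      rw [Finset.mul_sum, hsdef]
      exact Finset.sum_congr rfl fun e _ => hse e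
    by_contra hne
    let C : Set (AddMonoid.End V) := {g | g ∈ R ∧ g * g = g ∧ g ≠ 0 ∧ g * s = 0}
    have h1 : (1 - s) ∈ C := by
      refine ⟨R.sub_mem R.one_mem hsR, ?_, sub_ne_zero.mpr (Ne.symm hne), ?_⟩
      · rw [sub_mul, one_mul, mul_sub, mul_one, hss, sub_self, sub_zero]
      · rw [sub_mul, one_mul, hss, sub_self]
    obtain ⟨g, ⟨hgR, hgg, hg0, hgs⟩, hmin⟩ := Set.exists_min_image C
      (fun g => Nat.card (Set.range g)) (Set.toFinite C) ⟨_, h1⟩
    have hat : At g := by
      refine ⟨hgR, hgg, hg0, fun f hfR hff => ?_⟩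
      by_cases h : g * f = 0
      · exact Or.inr h
      refine Or.inl ?_
      have hcomm := ringOf_comm hA hgR hfR
      have hsub : Set.range (g * f : AddMonoid.End V) ⊆ Set.range g := by
        rintro _ ⟨y, rfl⟩; exact ⟨f y, rfl⟩
      have hgf : (g * f) * (g * f) = g * f := by
        rw [mul_assoc, ← mul_assoc f g, ← hcomm, mul_assoc g f f, hff, ← mul_assoc, hgg]
      have hle := hmin (g * f) ⟨R.mul_mem hgR hfR, hgf, h, by
        rw [hcomm, mul_assoc, hgs, mul_zero]⟩
      have heq : Set.range (g * f : AddMonoid.End V) = Set.range g :=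
        Set.eq_of_subset_of_ncard_le hsub (by simpa [Set.ncard] using hle)
          (Set.toFinite _)
      have h3 : (g * f) * g = g := by
        ext y
        obtain ⟨z, hz⟩ : g y ∈ Set.range (g * f : AddMonoid.End V) := heq ▸ ⟨y, rfl⟩
        show (g * f) (g y) = g y
        rw [← hz]
        exact congrArg (fun F : AddMonoid.End V => F z) hgf
      rwa [mul_assoc, ← hcomm, ← mul_assoc, hgg] at h3
    have : g * s = g := by
      rw [ringOf_comm hA hgR hsR]
      exact hse ⟨g, hat⟩
    exact hg0 (this.symm.trans hgs)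
  have htwo : Nontrivial ι := by
    by_contra hnt
    rw [not_nontrivial_iff_subsingleton] at hnt
    rcases isEmpty_or_nonempty ι with hemp | ⟨⟨e⟩⟩
    · rw [Finset.univ_eq_empty, Finset.sum_empty] at hsum
      have := congrArg (fun F : AddMonoid.End V => F x) hsum
      exact hx this.symm
    · rw [Fintype.sum_subsingleton _ e] at hsum
      rcases e.2.2.2.2 (r ^ k) (R.pow_mem hr k) hidem with h | h <;> rw [hsum, one_mul] at h
      · exact he1 h
      · exact he0 h
  let act : MulAction G ι :=
    { smul := fun g e => ⟨rho g * e.1 * rho g⁻¹, ringOf_conj g e.2.1, by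
        simp only [mul_assoc]
        rw [← mul_assoc (rho g⁻¹) (rho g), rho_inv_mul, one_mul, ← mul_assoc e.1 e.1, e.2.2.1],
        fun h => e.2.2.2.1 (by
          have h' : rho g⁻¹ * (rho g * e.1 * rho g⁻¹) * rho g = 0 := by rw [h, mul_zero, zero_mul]
          simpa [mul_assoc, rho_inv_mul, ← mul_assoc (rho g⁻¹) (rho g)] using h'),
        fun f hf hff => by
          have hf2 : rho g⁻¹ * f * rho g ∈ R := by
            have := ringOf_conj g⁻¹ hf
            rwa [inv_inv] at this
          have key : (rho g * e.1 * rho g⁻¹) * f = rho g * (e.1 * (rho g⁻¹ * f * rho g)) * rho g⁻¹ := by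
            simp only [mul_assoc]
            rw [rho_mul_inv, mul_one]
          rcases e.2.2.2.2 _ hf2 (by
            simp only [mul_assoc]
            rw [← mul_assoc (rho g) (rho g⁻¹), rho_mul_inv, one_mul, ← mul_assoc f f, hff]) with h | h
          · left; rw [key, h]
          · right; rw [key, h, mul_zero, zero_mul]⟩
      one_smul := fun e => Subtype.ext (by
        show rho (1 : G) * e.1 * rho (1 : G)⁻¹ = e.1
        rw [inv_one, rho_one, one_mul, mul_one])
      mul_smul := fun g h e => Subtype.ext (by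
        show rho (g * h) * e.1 * rho (g * h)⁻¹ = rho g * (rho h * e.1 * rho h⁻¹) * rho g⁻¹
        rw [mul_inv_rev, rho_mul, rho_mul]
        simp only [mul_assoc]) }
  refine hasPair_of_system IH hV hG hs hirr (fun e : ι => e.1) (fun y => ?_)
    (fun e f hef y => congrArg (fun F : AddMonoid.End V => F y) (horth e f hef))
    (fun g e y => (hconjx g e.1 y).symm) (fun e => ?_) htwo
  · have := congrArg (fun F : AddMonoid.End V => F y) hsum
    rwa [show (∑ e : ι, e.1) y = ∑ e : ι, e.1 y from AddMonoidHom.finsetSum_apply _ _ y] at this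
  · by_contra hc
    simp only [not_exists, not_not] at hc
    exact e.2.2.2.1 (AddMonoidHom.ext hc)

end Cfsg.Agent.OddOrbit
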