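import Cfsg.Agent.OddOrbit.Bounds
import Mathlib.Algebra.Order.BigOperators.Group.Finset
import Mathlib.GroupTheory.QuotientGroup.Basic
import Mathlib.GroupTheory.Subgroup.Centralizer

/-!
Counting pairs of vectors with nontrivial common stabiliser.
-/

set_option autoImplicit false

namespace Cfsg.Agent.OddOrbit

universe u

variable {G V : Type u} [Group G] [AddCommGroup V] [Finite V] [DistribMulAction G V]

omit [Group G] [DistribMulAction G V] in
/-- Subgroups meeting trivially. -/
theorem card_mul_le {U W : AddSubgroup V} (h : ∀ x ∈ U, x ∈ W → x = 0) :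
    Nat.card U * Nat.card W ≤ Nat.card V := by
  rw [← Nat.card_prod]
  refine Nat.card_le_card_of_injective (fun p : U × W => (p.1 : V) + p.2) fun p q hpq => ?_
  have h' : (p.1 : V) - q.1 = q.2 - p.2 := by
    rw [sub_eq_sub_iff_add_eq_add, add_comm (q.2 : V)]
    exact hpq
  have h0 : (p.1 : V) - q.1 = 0 := h _ (U.sub_mem p.1.2 q.1.2)
    (by rw [h']; exact W.sub_mem q.2.2 p.2.2)
  exact Prod.ext (Subtype.ext (sub_eq_zero.mp h0))
    (Subtype.ext (sub_eq_zero.mp (h'.symm.trans h0)).symm)

omit [Group G] [DistribMulAction G V] in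
/-- Subgroups with intersection inside a third one. -/
theorem card_mul_le_mul {U W Y : AddSubgroup V} (h : ∀ x ∈ U, x ∈ W → x ∈ Y) :
    Nat.card U * Nat.card W ≤ Nat.card V * Nat.card Y := by
  let f : U × W →+ V :=
    AddMonoidHom.coprod U.subtype W.subtype
  rw [← Nat.card_prod, f.ker.card_eq_card_quotient_mul_card_addSubgroup]
  refine Nat.mul_le_mul ?_ ?_
  · rw [Nat.card_congr (QuotientAddGroup.quotientKerEquivRange f).toEquiv]
    exact AddSubgroup.card_le_card_addGroup _
  · have hk : ∀ p : f.ker, ((p.1.1 : V)) = -(p.1.2 : V) := fun p => eq_neg_of_add_eq_zero_left p.2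
    refine Nat.card_le_card_of_injective
      (fun p : f.ker => (⟨(p.1.1 : V), h _ p.1.1.2 (by rw [hk]; exact W.neg_mem p.1.2.2)⟩ : Y))
      fun p q hpq => ?_
    have h1 : (p.1.1 : V) = q.1.1 := congrArg (fun y : Y => (y : V)) hpq
    refine Subtype.ext (Prod.ext (Subtype.ext h1) (Subtype.ext ?_))
    rw [hk, hk, neg_inj] at h1
    exact h1

/-- Translation of a fixed point subgroup. -/
theorem card_map_smul (b : G) (U : AddSubgroup V) :
    Nat.card (U.map (DistribSMul.toAddMonoidHom V b)) = Nat.card U :=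
  (Nat.card_congr (U.equivMapOfInjective _ (MulAction.injective b)).toEquiv).symm

/-- Outside the centraliser of a semiregular normal subgroup the fixed points are few. -/
theorem fix_sq_le (A : Subgroup G) [hAn : A.Normal] (hA : ∀ a ∈ A, a ≠ 1 → ∀ x : V, a • x = x → x = 0)
    (hcomm : ∀ a ∈ A, ∀ b ∈ A, a * b = b * a) {g : G} (hg : g ∉ Subgroup.centralizer (A : Set G)) :
    Nat.card (fixSub (V := V) g) ^ 2 ≤ Nat.card V := by
  obtain ⟨a, ha, hne⟩ : ∃ a ∈ A, g * a ≠ a * g := by
    by_contra h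
    push Not at h
    exact hg (Subgroup.mem_centralizer_iff.mpr fun a ha => (h a ha).symm)
  rw [sq]
  conv_lhs => arg 2; rw [← card_map_smul a]
  refine card_mul_le fun x hx hx' => ?_
  obtain ⟨y, hy, rfl⟩ := hx'
  have hc : g * a * g⁻¹ * a⁻¹ ∈ A := A.mul_mem (hAn.conj_mem a ha g) (A.inv_mem ha)
  refine hA _ hc (fun h => hne ?_) (a • y) ?_
  · exact mul_inv_eq_iff_eq_mul.mp (mul_inv_eq_one.mp h)
  · rw [mul_smul, inv_smul_smul, mul_smul, inv_smul_eq_iff.mpr (mem_fixSub.mp hy).symm, mul_smul]
    exact mem_fixSub.mp hx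

/-- An element commuting up to a scalar without fixed points. -/
theorem fix_cube_le {y b z : G} (hyb : y * b = z * b * y) (hzb : z * b = b * z) (hyz : y * z = z * y)
    (hz : ∀ x : V, z • x = x → x = 0) (hz2 : ∀ x : V, (z * z) • x = x → x = 0) :
    Nat.card (fixSub (V := V) y) ^ 3 ≤ Nat.card V := by
  let F := fixSub (V := V) y
  have : Nat.card (F × F × F) ≤ Nat.card V := by
    refine Nat.card_le_card_of_injective
      (fun p : F × F × F => (p.1 : V) + (b • (p.2.1 : V) + b • b • (p.2.2 : V))) fun p q h => ?_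
    have key : ∀ u v w : F, (u : V) + (b • (v : V) + b • b • (w : V)) = 0 →
        u = 0 ∧ v = 0 ∧ w = 0 := by
      intro u v w h0
      have hv : y • b • (v : V) = z • b • (v : V) := by
        rw [← mul_smul, hyb, mul_smul, mem_fixSub.mp v.2, mul_smul]
      have hw : y • b • b • (w : V) = (z * z) • b • b • (w : V) := by
        rw [← mul_smul, hyb, mul_smul, mul_smul z b, ← mul_smul y b, hyb, mul_smul,
          mem_fixSub.mp w.2, mul_smul z b, mul_smul, ← mul_smul b z, ← hzb, mul_smul]
      set p := b • (v : V) with hp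
      set r := b • b • (w : V) with hr
      have e1 : (z • p - p) + ((z * z) • r - r) = 0 := by
        have h1 : (u : V) + (z • p + (z * z) • r) = 0 := by
          have := congrArg (y • ·) h0
          simp only [smul_add, smul_zero] at this
          rwa [mem_fixSub.mp u.2, hv, hw] at this
        have := congrArg₂ (· - ·) h1 h0
        simp only [sub_zero] at this
        rw [← this]; abel
      have hyz' : ∀ x : V, y • z • x = z • y • x := fun x => by rw [← mul_smul, hyz, mul_smul]
      have e2 : z • ((z * z) • r - r) = (z * z) • ((z * z) • r - r) := by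
        have a1 := congrArg (y • ·) e1
        have a2 := congrArg (z • ·) e1
        simp only [mul_smul, smul_add, smul_sub, smul_zero, hyz', hv, hw] at a1 a2 ⊢
        have := congrArg₂ (· - ·) a2 a1
        simp only [sub_zero] at this
        rw [← sub_eq_zero, ← this]; abel
      have e3 : (z * z) • r - r = 0 :=
        hz _ (MulAction.injective z (e2.trans (mul_smul z z _))).symm
      have hr0 : r = 0 := hz2 r (sub_eq_zero.mp e3)
      rw [e3, add_zero] at e1
      have hp0 : p = 0 := hz p (sub_eq_zero.mp e1)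
      rw [hp0, hr0, add_zero, add_zero] at h0
      rw [hp, smul_eq_zero_iff_eq] at hp0
      rw [hr, smul_eq_zero_iff_eq, smul_eq_zero_iff_eq] at hr0
      exact ⟨Subtype.ext h0, Subtype.ext hp0, Subtype.ext hr0⟩
    obtain ⟨h1, h2, h3⟩ := key (p.1 - q.1) (p.2.1 - q.2.1) (p.2.2 - q.2.2) (by
      simp only [AddSubgroup.coe_sub, smul_sub]
      simp only [] at h
      rw [← sub_eq_zero] at h
      rw [← h]; abel)
    exact Prod.ext (sub_eq_zero.mp h1) (Prod.ext (sub_eq_zero.mp h2) (sub_eq_zero.mp h3))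
  rw [Nat.card_prod, Nat.card_prod] at this
  calc _ = Nat.card F * (Nat.card F * Nat.card F) := by ring
    _ ≤ _ := this

/-- Reduction to the fixed points of a commutator. -/
theorem fix_sq_le_mul (x b : G) :
    Nat.card (fixSub (V := V) x) ^ 2 ≤
      Nat.card V * Nat.card (fixSub (V := V) (x * b * x⁻¹ * b⁻¹)) := by
  rw [sq]
  conv_lhs => arg 2; rw [← card_map_smul b]
  refine card_mul_le_mul fun v hv hv' => ?_
  obtain ⟨w, hw, rfl⟩ := hv'
  refine mem_fixSub.mpr ?_
  show (x * b * x⁻¹ * b⁻¹) • b • w = b • w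
  rw [mul_smul, inv_smul_smul, mul_smul, inv_smul_eq_iff.mpr (mem_fixSub.mp hw).symm, mul_smul]
  exact mem_fixSub.mp hv

/-- The count. -/
theorem hasPair_of_count [Finite G] (hG : Odd (Nat.card G)) (A : Subgroup G) [hAn : A.Normal]
    (C : Subgroup G) (hA : ∀ a ∈ A, a ≠ 1 → ∀ x : V, a • x = x → x = 0)
    (hout : ∀ g, g ∉ C → Nat.card (fixSub (V := V) g) ^ 2 ≤ Nat.card V)
    (hin : ∀ g ∈ C, g ∉ A → Nat.card (fixSub (V := V) g) ^ 6 ≤ Nat.card V ^ 4)
    (hM : Nat.card (C.map (QuotientGroup.mk' A)) ^ 3 ≤ Nat.card V ^ 2)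
    (hcard : Nat.card G ≤ Nat.card V) : HasPair G V := by
  classical
  have := Fintype.ofFinite G
  have := Fintype.ofFinite V
  by_contra hno
  have hbad : ∀ v w : V, ∃ g : G, g • v = v ∧ g • w = w ∧ g ≠ 1 := fun v w => by
    by_contra h
    push Not at h
    exact hno ⟨v, w, fun g hv hw x => by rw [h g hv hw, one_smul]⟩
  let T : Finset G := Finset.univ.erase 1
  let F : G → ℕ := fun g => Nat.card (fixSub (V := V) g)
  have hFcard : ∀ g : G,
      (Finset.univ.filter fun p : V × V => g • p.1 = p.1 ∧ g • p.2 = p.2).card = F g ^ 2 := fun g => by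
    have e : (Finset.univ.filter fun v : V => g • v = v).card = F g := by
      rw [← Fintype.card_subtype, ← Nat.card_eq_fintype_card]
      rfl
    rw [sq, ← e, ← Finset.card_product]
    congr 1
    ext p; simp
  have hlow : 2 * Nat.card V ^ 2 ≤ ∑ g ∈ T, F g ^ 2 := by
    simp only [← hFcard, Finset.card_filter]
    rw [Finset.sum_comm]
    have : ∀ p : V × V, 2 ≤ ∑ g ∈ T, if g • p.1 = p.1 ∧ g • p.2 = p.2 then 1 else 0 := fun p => by
      obtain ⟨g, h1, h2, hne⟩ := hbad p.1 p.2
      rw [← Finset.card_filter]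
      have hinv : g⁻¹ ≠ g := fun h => by
        refine hne ?_
        have hsq : g * g = 1 := by nth_rw 1 [← h]; exact inv_mul_cancel g
        have h3 : orderOf g ∣ 2 := orderOf_dvd_of_pow_eq_one (by rw [sq, hsq])
        rcases (Nat.dvd_prime Nat.prime_two).mp h3 with h4 | h4
        · exact orderOf_eq_one_iff.mp h4
        · exact absurd (h4 ▸ orderOf_dvd_natCard g) hG.not_two_dvd_nat
      refine (Finset.card_pair hinv).symm.le.trans (Finset.card_le_card ?_)
      intro k hk
      rcases Finset.mem_insert.mp hk with rfl | hk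
      · simp [T, hne, inv_smul_eq_iff, h1, h2]
      · rw [Finset.mem_singleton.mp hk]; simp [T, hne, h1, h2]
    calc 2 * Nat.card V ^ 2 = ∑ _p : V × V, 2 := by
          simp [Nat.card_eq_fintype_card]; ring
      _ ≤ _ := Finset.sum_le_sum fun p _ => this p
  let S := T.filter fun g => Nat.card V < F g ^ 2
  have hS : ∀ g ∈ S, g ∈ C ∧ g ∉ A := fun g hg => by
    obtain ⟨hgT, hlt⟩ := Finset.mem_filter.mp hg
    refine ⟨by_contra fun h => absurd (hout g h) hlt.not_ge, fun h => ?_⟩
    have h1 : F g ≤ 1 := by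
      refine Finite.card_le_one_iff_subsingleton.mpr ⟨fun a b => Subtype.ext ?_⟩
      have z := hA g h (Finset.ne_of_mem_erase hgT)
      rw [z _ a.2, z _ b.2]
    have : 0 < Nat.card V := Nat.card_pos
    interval_cases (F g) <;> simp at hlt <;> omega
  have hScard : S.card ≤ Nat.card (C.map (QuotientGroup.mk' A)) := by
    rw [← Nat.card_eq_finsetCard]
    refine Nat.card_le_card_of_injective
      (fun g : S => (⟨QuotientGroup.mk' A g, g, (hS g g.2).1, rfl⟩ : C.map (QuotientGroup.mk' A)))
      fun g g' h => ?_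
    by_contra hne
    have hmem : (g : G)⁻¹ * g' ∈ A := QuotientGroup.eq.mp (congrArg Subtype.val h)
    have hmul := card_mul_le (U := fixSub (g : G)) (W := fixSub (g' : G)) fun x hx hx' =>
      hA _ hmem (fun h1 => hne (Subtype.ext (inv_mul_eq_one.mp h1))) x
        (by rw [mul_smul, mem_fixSub.mp hx', inv_smul_eq_iff.mpr (mem_fixSub.mp hx).symm])
    have h1 := (Finset.mem_filter.mp g.2).2
    have h2 := (Finset.mem_filter.mp g'.2).2
    have := Nat.mul_lt_mul'' h1 h2
    nlinarith [Nat.mul_le_mul hmul hmul]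
  have hup : ∑ g ∈ S, F g ^ 2 ≤ Nat.card V ^ 2 := by
    rcases S.eq_empty_or_nonempty with h | h
    · simp [h]
    obtain ⟨g₀, hg₀, hmax⟩ := Finset.exists_max_image S F h
    refine (Finset.sum_le_card_nsmul S _ (F g₀ ^ 2) fun g hg => Nat.pow_le_pow_left (hmax g hg) 2).trans ?_
    rw [smul_eq_mul]
    refine (Nat.mul_le_mul_right _ hScard).trans ((Nat.pow_le_pow_iff_left (n := 3) (by norm_num)).mp ?_)
    calc (Nat.card (C.map (QuotientGroup.mk' A)) * F g₀ ^ 2) ^ 3
        = Nat.card (C.map (QuotientGroup.mk' A)) ^ 3 * F g₀ ^ 6 := by ring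
      _ ≤ Nat.card V ^ 2 * Nat.card V ^ 4 := Nat.mul_le_mul hM (hin g₀ (hS g₀ hg₀).1 (hS g₀ hg₀).2)
      _ = (Nat.card V ^ 2) ^ 3 := by ring
  have hrest : ∑ g ∈ T.filter (fun g => ¬ Nat.card V < F g ^ 2), F g ^ 2 ≤ T.card * Nat.card V :=
    le_trans (Finset.sum_le_card_nsmul _ _ (Nat.card V) fun g hg =>
      not_lt.mp (Finset.mem_filter.mp hg).2) (by
      rw [smul_eq_mul]; exact Nat.mul_le_mul_right _ (Finset.card_filter_le _ _))
  rw [← Finset.sum_filter_add_sum_filter_not T fun g => Nat.card V < F g ^ 2] at hlow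
  have hT : T.card + 1 = Nat.card G := by
    rw [Nat.card_eq_fintype_card, ← Finset.card_univ]
    exact Finset.card_erase_add_one (Finset.mem_univ 1)
  have hpos : 0 < Nat.card V := Nat.card_pos
  have hlt : T.card * Nat.card V < Nat.card V * Nat.card V :=
    Nat.mul_lt_mul_of_pos_right (by omega) hpos
  have hup' : ∑ x ∈ T with Nat.card V < F x ^ 2, F x ^ 2 ≤ Nat.card V ^ 2 := hup
  rw [sq (Nat.card V)] at hlow hup'
  omega

end Cfsg.Agent.OddOrbit
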