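import Cfsg.Agent.OddOrbit.Subsets
import Cfsg.Agent.Coprime.SchurZassenhaus

/-!
Induction for Gluck's lemma, given the orbit theorem for modules of no larger size.
-/

set_option autoImplicit false

namespace Cfsg.Agent.OddOrbit

open MulAction

universe u

/-- The permutation image acting. -/
theorem hasSet_of_range {P ι : Type u} [Group P] [MulAction P ι]
    (h : HasSet (MulAction.toPermHom P ι).range ι) : HasSet P ι := by
  obtain ⟨S, h⟩ := h
  exact ⟨S, fun g hg i => h ⟨_, g, rfl⟩ hg i⟩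

section Regular

variable {P ι : Type u} [Group P] [Finite P] [Finite ι] [MulAction P ι] [FaithfulSMul P ι]

theorem hasSet_of_regular {n : ℕ} (IH : GoodUpTo.{u} n) (hn : Nat.card ι ≤ n)
    (hP : Odd (Nat.card P)) (hs : Group.IsSolvable P) (N : Subgroup P) [hNn : N.Normal]
    (hcomm : ∀ a ∈ N, ∀ b ∈ N, a * b = b * a)
    (hmin : ∀ M : Subgroup P, M.Normal → M ≤ N → M = ⊥ ∨ M = N) (i₀ : ι)
    (htr : ∀ i : ι, ∃ a ∈ N, a • i₀ = i) : HasSet P ι := by
  let instN : CommGroup N :=
    { (inferInstance : Group N) with mul_comm := fun a b => Subtype.ext (hcomm a a.2 b b.2) }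
  let instA : AddCommGroup (Additive N) := Additive.addCommGroup
  let act : DistribMulAction (stabilizer P i₀) (Additive N) := conjAction N (stabilizer P i₀)
  have hfree : ∀ a ∈ N, a • i₀ = i₀ → a = 1 := fun a ha h => by
    refine eq_of_smul_eq_smul (α := ι) fun i => ?_
    obtain ⟨m, hm, rfl⟩ := htr i
    rw [← mul_smul, hcomm a ha m hm, mul_smul, h, one_smul]
  have hcard : Nat.card (Additive N) ≤ n := by
    refine le_trans ?_ hn
    refine Nat.card_le_card_of_injective (fun a : Additive N => (a.toMul : P) • i₀) fun a b h => ?_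
    have := hfree _ (N.mul_mem (N.inv_mem b.toMul.2) a.toMul.2)
      (by rw [mul_smul, show (a.toMul : P) • i₀ = (b.toMul : P) • i₀ from h, inv_smul_smul])
    exact Additive.toMul.injective (Subtype.ext (inv_mul_eq_one.mp this).symm)
  have hcr : CR (stabilizer P i₀) (Additive N) := by
    intro U hU
    let U' : Subgroup P := (AddSubgroup.toSubgroup' U).map N.subtype
    have hU'N : U' ≤ N := by rintro x ⟨y, -, rfl⟩; exact y.2
    have hU'n : U'.Normal := by
      refine ⟨fun x hx g => ?_⟩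
      obtain ⟨y, hy, rfl⟩ := hx
      obtain ⟨a, ha, hag⟩ := htr (g • i₀)
      have hh : a⁻¹ * g ∈ stabilizer P i₀ := by
        rw [mem_stabilizer_iff, mul_smul, ← hag, inv_smul_smul]
      refine ⟨_, hU ⟨_, hh⟩ (Additive.ofMul y) hy, ?_⟩
      show (a⁻¹ * g) * (y : P) * (a⁻¹ * g)⁻¹ = g * (y : P) * g⁻¹
      have h1 := hcomm a ha _ (hNn.conj_mem (y : P) y.2 (a⁻¹ * g))
      calc (a⁻¹ * g) * (y : P) * (a⁻¹ * g)⁻¹
          = (a * ((a⁻¹ * g) * (y : P) * (a⁻¹ * g)⁻¹)) * a⁻¹ := by rw [h1, mul_inv_cancel_right]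
        _ = _ := by group
    rcases hmin U' hU'n hU'N with h | h
    · have hU0 : U = ⊥ := by
        refine (AddSubgroup.eq_bot_iff_forall _).mpr fun x hx => ?_
        have h1 : ((x.toMul : N) : P) ∈ U' := ⟨x.toMul, hx, rfl⟩
        rw [h, Subgroup.mem_bot] at h1
        exact Additive.toMul.injective (Subtype.ext h1)
      exact ⟨⊤, fun _ _ _ => AddSubgroup.mem_top _, by simp [hU0], by simp⟩
    · have hU1 : U = ⊤ := by
        refine eq_top_iff.mpr fun x _ => ?_
        have h1 : ((x.toMul : N) : P) ∈ U' := h.symm ▸ x.toMul.2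
        obtain ⟨y, hy, hyx⟩ := h1
        rw [show x = Additive.ofMul y from Additive.toMul.injective (Subtype.ext hyx.symm)]
        exact hy
      exact ⟨⊥, fun a w hw => by rw [AddSubgroup.mem_bot] at hw ⊢; rw [hw, smul_zero],
        by simp, by simp [hU1]⟩
  obtain ⟨v, w, hvw⟩ := IH (stabilizer P i₀) (Additive N) hcard (odd_subgroup hP _)
    (by haveI := hs; infer_instance) hcr
  refine hasSet_of_affine hP N hcomm i₀ htr (v.toMul : P) (w.toMul : P) v.toMul.2 w.toMul.2
    fun h hh h1 h2 a ha => ?_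
  have h3 := hvw ⟨h, hh⟩ (Additive.toMul.injective (Subtype.ext h1))
    (Additive.toMul.injective (Subtype.ext h2)) (Additive.ofMul ⟨a, ha⟩)
  exact congrArg (fun z : Additive N => (z.toMul : P)) h3

end Regular

theorem setsUpTo_of_good {n : ℕ} (IH : GoodUpTo.{u} n) : SetsUpTo.{u} n := by
  intro P ι _ _ _ _ hn hP hs
  induction hm : Nat.card ι using Nat.strong_induction_on generalizing P ι with
  | _ m IHm =>
  subst hm
  apply hasSet_of_range
  have hP' := odd_range hP (MulAction.toPermHom P ι)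
  have hs' := solvable_range hs (MulAction.toPermHom P ι)
  generalize hQ : (MulAction.toPermHom P ι).range = Q at hP' hs'
  clear hQ hP hs
  by_cases hsub : Subsingleton ι
  · exact ⟨∅, fun g _ i => Subsingleton.elim _ _⟩
  rw [not_subsingleton_iff_nontrivial] at hsub
  by_cases htr : IsPretransitive Q ι
  · obtain ⟨i₀⟩ : Nonempty ι := inferInstance
    obtain ⟨j₀, hj₀⟩ := exists_ne i₀
    obtain ⟨g₀, hg₀⟩ := htr.exists_smul_eq i₀ j₀
    have hQne : (⊤ : Subgroup Q) ≠ ⊥ := fun h => by
      have : g₀ = 1 := by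
        have := Subgroup.mem_top g₀
        rwa [h, Subgroup.mem_bot] at this
      rw [this, one_smul] at hg₀
      exact hj₀ hg₀.symm
    obtain ⟨A, hAn, hAc, -, hAne⟩ := Coprime.exists_minimal_normal_abelian (⊤ : Subgroup Q) hQne
      (by haveI := hs'; infer_instance)
    obtain ⟨N, ⟨hNn, hcomm, hNne⟩, hNmin⟩ := wellFounded_lt.has_min
      {N : Subgroup Q | N.Normal ∧ (∀ a ∈ N, ∀ b ∈ N, a * b = b * a) ∧ N ≠ ⊥}
      ⟨A, hAn, fun a ha b hb => congrArg Subtype.val (hAc.is_comm.comm ⟨a, ha⟩ ⟨b, hb⟩), hAne⟩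
    have hmin : ∀ M : Subgroup Q, M.Normal → M ≤ N → M = ⊥ ∨ M = N := fun M hM hMN => by
      by_cases hb : M = ⊥
      · exact Or.inl hb
      refine Or.inr (hMN.antisymm ?_)
      by_contra hle
      exact hNmin M ⟨hM, fun a ha b hb => hcomm a (hMN ha) b (hMN hb), hb⟩
        (lt_of_le_not_ge hMN hle)
    have := hNn
    by_cases hNtr : ∀ i : ι, ∃ a ∈ N, a • i₀ = i
    · exact hasSet_of_regular IH hn hP' hs' N hcomm hmin i₀ hNtr
    let κ := MulAction.orbitRel.Quotient N ι
    let q : ι → κ := Quotient.mk''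
    have hqeq : ∀ i j, q i = q j ↔ ∃ a ∈ N, a • j = i := fun i j => by
      rw [Quotient.eq'']
      show i ∈ orbit N j ↔ _
      constructor
      · rintro ⟨a, ha⟩; exact ⟨a, a.2, ha⟩
      · rintro ⟨a, ha, ha'⟩; exact ⟨⟨a, ha⟩, ha'⟩
    have hcompat : ∀ (g : Q) (i j : ι), q i = q j → q (g • i) = q (g • j) := fun g i j h => by
      obtain ⟨a, ha, rfl⟩ := (hqeq i j).mp h
      refine (hqeq _ _).mpr ⟨g * a * g⁻¹, hNn.conj_mem a ha g, ?_⟩
      rw [mul_smul, mul_smul, inv_smul_smul]
    let _actκ : MulAction Q κ :=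
      { smul := fun g k => Quotient.liftOn' k (fun i => q (g • i))
          (fun i j h => hcompat g i j (Quotient.sound' h))
        one_smul := fun k => Quotient.inductionOn' k fun i => congrArg q (one_smul Q i)
        mul_smul := fun g h k => Quotient.inductionOn' k fun i => congrArg q (mul_smul g h i) }
    have hq : ∀ (g : Q) (i : ι), q (g • i) = g • q i := fun _ _ => rfl
    have : Finite κ := Finite.of_surjective q Quotient.mk''_surjective
    have hκ : Nat.card κ < Nat.card ι := by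
      refine lt_of_le_of_ne (Nat.card_le_card_of_surjective q Quotient.mk''_surjective) fun h => ?_
      have hbij : Function.Bijective q :=
        Function.Surjective.bijective_of_nat_card_le Quotient.mk''_surjective h.ge
      refine hNne ((Subgroup.eq_bot_iff_forall _).mpr fun a ha => ?_)
      refine eq_of_smul_eq_smul (α := ι) fun i => ?_
      rw [one_smul]
      exact hbij.injective ((hqeq _ _).mpr ⟨a, ha, rfl⟩)
    refine hasSet_of_blocks hP' q hq (q i₀) ⟨i₀, rfl⟩ (fun k => ?_)
      (IHm _ hκ Q κ ((le_of_lt hκ).trans hn) hP' hs' rfl) ?_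
    · obtain ⟨i, rfl⟩ := Quotient.mk''_surjective (s₁ := MulAction.orbitRel N ι) k
      obtain ⟨g, hg⟩ := htr.exists_smul_eq i₀ i
      exact ⟨g, by rw [← hq, hg]⟩
    · push Not at hNtr
      obtain ⟨i₁, hi₁⟩ := hNtr
      let := fibreAction q hq (q i₀)
      have hlt : Nat.card {i : ι // q i = q i₀} < Nat.card ι :=
        Finite.card_subtype_lt (x := i₁) fun h => by
          obtain ⟨a, ha, ha'⟩ := (hqeq _ _).mp h
          exact hi₁ a ha ha'
      exact IHm _ hlt (stabilizer Q (q i₀)) _ ((le_of_lt hlt).trans hn) (odd_subgroup hP' _)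
        (by haveI := hs'; infer_instance) rfl
  · have hex : ∃ i j : ι, ∀ g : Q, g • i ≠ j := by
      by_contra h
      push Not at h
      exact htr ⟨h⟩
    obtain ⟨i, j, hij⟩ := hex
    have hO : ∀ g : Q, ∀ k ∈ orbit Q i, g • k ∈ orbit Q i := fun g k hk => by
      obtain ⟨a, rfl⟩ := hk
      exact ⟨g * a, mul_smul g a i⟩
    have hO' : ∀ g : Q, ∀ k ∈ (orbit Q i)ᶜ, g • k ∈ (orbit Q i)ᶜ := fun g k hk h => hk (by
      have := hO g⁻¹ _ h
      rwa [inv_smul_smul] at this)
    refine hasSet_of_union hO hO' (fun k hk hk' => hk' hk) (fun k => em _) ?_ ?_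
    · let := setAction (orbit Q i) hO
      have hlt : Nat.card (orbit Q i) < Nat.card ι :=
        Finite.card_subtype_lt (x := j) fun ⟨a, ha⟩ => hij a ha
      exact IHm _ hlt Q _ ((le_of_lt hlt).trans hn) hP' hs' rfl
    · let := setAction (orbit Q i)ᶜ hO'
      have hlt : Nat.card ((orbit Q i)ᶜ : Set ι) < Nat.card ι :=
        Finite.card_subtype_lt (x := i) fun h => h (mem_orbit_self i)
      exact IHm _ hlt Q _ ((le_of_lt hlt).trans hn) hP' hs' rfl

end Cfsg.Agent.OddOrbit
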