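import Cfsg.Agent.OddOrbit.Gluck

/-!
An irreducible odd solvable group permuting the summands of a decomposition of its module.
-/

set_option autoImplicit false

namespace Cfsg.Agent.OddOrbit

open MulAction

universe u

variable {G V : Type u} [Group G] [Finite G] [AddCommGroup V] [Finite V] [DistribMulAction G V]

/-- A system of imprimitivity, given by orthogonal projections. -/
theorem hasPair_of_system {n : ℕ} (IH : GoodUpTo.{u} n) (hV : Nat.card V ≤ n + 1)
    (hG : Odd (Nat.card G)) (hs : Group.IsSolvable G)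
    (hirr : ∀ U : AddSubgroup V, (∀ a : G, ∀ v ∈ U, a • v ∈ U) → U = ⊥ ∨ U = ⊤)
    {ι : Type u} [Fintype ι] [MulAction G ι] (e : ι → AddMonoid.End V)
    (hsum : ∀ x, ∑ i, e i x = x) (horth : ∀ i j, i ≠ j → ∀ x, e i (e j x) = 0)
    (hperm : ∀ (g : G) (i : ι) (x : V), g • e i x = e (g • i) (g • x))
    (hne : ∀ i, ∃ x, e i x ≠ 0) (htwo : Nontrivial ι) : HasPair G V := by
  classical
  have hidem : ∀ i x, e i (e i x) = e i x := fun i x => by
    conv_rhs => rw [← hsum (e i x)]
    exact (Finset.sum_eq_single i (fun j _ hj => horth j i hj x) (by simp)).symm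
  obtain ⟨i₀, j₀, hij⟩ := htwo.exists_pair_ne
  -- transitivity
  have htr : ∀ i : ι, ∃ g : G, g • i₀ = i := by
    intro i
    by_contra hc
    let U : AddSubgroup V :=
      { carrier := {x | ∀ j, (¬ ∃ g : G, g • i₀ = j) → e j x = 0}
        add_mem' := fun ha hb j hj => by rw [map_add, ha j hj, hb j hj, add_zero]
        zero_mem' := fun j _ => map_zero _
        neg_mem' := fun ha j hj => by rw [map_neg, ha j hj, neg_zero] }
    have hU : ∀ a : G, ∀ v ∈ U, a • v ∈ U := fun a v hv j hj => by
      have h := hperm a (a⁻¹ • j) v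
      rw [smul_inv_smul] at h
      rw [← h, hv (a⁻¹ • j) (fun ⟨g, hg⟩ => hj ⟨a * g, by rw [mul_smul, hg, smul_inv_smul]⟩),
        smul_zero]
    rcases hirr U hU with h | h
    · obtain ⟨x, hx⟩ := hne i₀
      refine hx ((AddSubgroup.eq_bot_iff_forall _).mp h _ fun j hj => horth j i₀ ?_ x)
      rintro rfl
      exact hj ⟨1, one_smul _ _⟩
    · obtain ⟨x, hx⟩ := hne i
      exact hx ((h.symm ▸ AddSubgroup.mem_top x : x ∈ U) i hc)
  -- the first summand
  let W : AddSubgroup V :=
    { carrier := {x | e i₀ x = x}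
      add_mem' := fun ha hb => by simp only [Set.mem_setOf_eq] at ha hb ⊢; rw [map_add, ha, hb]
      zero_mem' := map_zero _
      neg_mem' := fun ha => by simp only [Set.mem_setOf_eq] at ha ⊢; rw [map_neg, ha] }
  let H := stabilizer G i₀
  have hW : ∀ a : H, ∀ w ∈ W, a • w ∈ W := fun a w hw => by
    show e i₀ ((a : G) • w) = (a : G) • w
    have h := hperm (a : G) i₀ w
    rw [show (a : G) • i₀ = i₀ from a.2, show e i₀ w = w from hw] at h
    exact h.symm
  let actW : DistribMulAction H W := subAction W hW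
  have hWcard : Nat.card W ≤ n := by
    have hlt : Nat.card W < Nat.card V := by
      refine lt_of_le_of_ne (AddSubgroup.card_le_card_addGroup W) fun h => ?_
      obtain ⟨x, hx⟩ := hne j₀
      have h2 : e j₀ x ∈ W := by rw [AddSubgroup.eq_top_of_card_eq W h]; exact AddSubgroup.mem_top _
      exact hx (h2.symm.trans (horth i₀ j₀ hij x))
    omega
  have hcr : CR H W := by
    intro U hU
    by_cases hU0 : U = ⊥
    · exact ⟨⊤, fun _ _ _ => AddSubgroup.mem_top _, by simp [hU0], by simp⟩
    · refine ⟨⊥, fun a w hw => by rw [AddSubgroup.mem_bot] at hw ⊢; rw [hw, smul_zero],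
        by simp, ?_⟩
      let Uh : AddSubgroup V := AddSubgroup.closure {x | ∃ g : G, ∃ u ∈ U, x = g • (u : V)}
      have hUh : ∀ a : G, ∀ v ∈ Uh, a • v ∈ Uh := fun a v hv => by
        induction hv using AddSubgroup.closure_induction with
        | mem x hx =>
          obtain ⟨g, u, hu, rfl⟩ := hx
          exact AddSubgroup.subset_closure ⟨a * g, u, hu, (mul_smul a g _).symm⟩
        | zero => rw [smul_zero]; exact Uh.zero_mem
        | add x y _ _ hx hy => rw [smul_add]; exact Uh.add_mem hx hy
        | neg x _ hx => rw [smul_neg]; exact Uh.neg_mem hx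
      have hkey : ∀ v ∈ Uh, ∃ u ∈ U, e i₀ v = (u : V) := fun v hv => by
        induction hv using AddSubgroup.closure_induction with
        | mem x hx =>
          obtain ⟨g, u, hu, rfl⟩ := hx
          by_cases hg : g • i₀ = i₀
          · exact ⟨(⟨g, hg⟩ : H) • u, hU _ u hu, (hW ⟨g, hg⟩ _ u.2 : e i₀ (g • (u : V)) = g • (u : V))⟩
          · refine ⟨0, U.zero_mem, ?_⟩
            have h := hperm g i₀ (u : V)
            rw [show e i₀ (u : V) = u from u.2] at h
            rw [h, horth i₀ (g • i₀) (fun h' => hg h'.symm)]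
            rfl
        | zero => exact ⟨0, U.zero_mem, by rw [map_zero]; rfl⟩
        | add x y _ _ hx hy =>
          obtain ⟨a, ha, hax⟩ := hx
          obtain ⟨b, hb, hby⟩ := hy
          exact ⟨a + b, U.add_mem ha hb, by rw [map_add, hax, hby]; rfl⟩
        | neg x _ hx =>
          obtain ⟨a, ha, hax⟩ := hx
          exact ⟨-a, U.neg_mem ha, by rw [map_neg, hax]; rfl⟩
      rcases hirr Uh hUh with h | h
      · refine absurd ?_ hU0
        refine (AddSubgroup.eq_bot_iff_forall _).mpr fun u hu => Subtype.ext ?_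
        exact (AddSubgroup.eq_bot_iff_forall _).mp h _
          (AddSubgroup.subset_closure ⟨1, u, hu, (one_smul G _).symm⟩)
      · rw [sup_bot_eq]
        refine eq_top_iff.mpr fun x _ => ?_
        obtain ⟨u, hu, hxu⟩ := hkey (x : V) (h.symm ▸ AddSubgroup.mem_top _)
        rw [show x = u from Subtype.ext ((x.2 : e i₀ (x : V) = x).symm.trans hxu)]
        exact hu
  have : Nontrivial W := by
    obtain ⟨x, hx⟩ := hne i₀
    exact ⟨⟨⟨e i₀ x, hidem i₀ x⟩, 0, fun h => hx (congrArg Subtype.val h)⟩⟩
  obtain ⟨v, w, hvw, hpair⟩ := HasPair.ne (IH H W hWcard (odd_subgroup hG _)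
    (by haveI := hs; infer_instance) hcr)
  -- the set of summands
  have hιcard : Nat.card ι ≤ n := by
    choose x hx using hne
    have h : Function.Injective (fun o : Option ι => o.elim 0 fun i => e i (x i)) := by
      rintro (_ | i) (_ | j) h
      · rfl
      · exact absurd h.symm (hx j)
      · exact absurd h (hx i)
      · by_cases hij' : i = j
        · rw [hij']
        · refine absurd ?_ (hx i)
          have h1 : e i (e i (x i)) = e i (e j (x j)) := congrArg (e i) h
          rwa [hidem, horth i j hij'] at h1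
    have := Nat.card_le_card_of_injective _ h
    rw [Finite.card_option] at this
    omega
  obtain ⟨S, hS⟩ := setsUpTo_of_good IH G ι hιcard hG hs
  choose t ht using htr
  let a' : ι → V := fun i => t i • ((if i ∈ S then v else w : W) : V)
  let b' : ι → V := fun i => t i • ((if i ∈ S then w else v : W) : V)
  have hmem : ∀ (i : ι) (y : W), e i (t i • (y : V)) = t i • (y : V) := fun i y => by
    have h := hperm (t i) i₀ (y : V)
    rw [show e i₀ (y : V) = y from y.2, ht] at h
    exact h.symm
  have hcomp : ∀ f : ι → W, ∀ i, e i (∑ j, t j • (f j : V)) = t i • (f i : V) := fun f i => by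
    rw [map_sum, Finset.sum_eq_single i (fun j _ hj => ?_) (by simp), hmem]
    rw [← hmem j, horth i j (Ne.symm hj)]
  refine ⟨∑ i, a' i, ∑ i, b' i, fun g hga hgb => ?_⟩
  have hmove : ∀ (f : ι → W), g • (∑ j, t j • (f j : V)) = ∑ j, t j • (f j : V) →
      ∀ i, ((t (g • i))⁻¹ * g * t i) • (f i : V) = (f (g • i) : V) := fun f hf i => by
    have h1 := hperm g i (∑ j, t j • (f j : V))
    rw [hf, hcomp, hcomp] at h1
    rw [mul_smul, mul_smul, h1, inv_smul_smul]
  have ha := hmove (fun i => if i ∈ S then v else w) hga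
  have hb := hmove (fun i => if i ∈ S then w else v) hgb
  have hπ : ∀ i, g • i ∈ S ↔ i ∈ S := fun i => by
    by_contra hc
    have h1 := ha i
    have h2 := hb i
    apply hvw
    apply Subtype.ext
    by_cases hi : i ∈ S
    · have hgi : g • i ∉ S := fun h => hc ⟨fun _ => hi, fun _ => h⟩
      simp only [hi, hgi, if_true, if_false] at h1 h2
      exact fixed_of_swap hG h1 h2
    · have hgi : g • i ∈ S := by
        by_contra h
        exact hc ⟨fun h' => absurd h' h, fun h' => absurd h' hi⟩
      simp only [hi, hgi, if_true, if_false] at h1 h2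
      exact fixed_of_swap hG h2 h1
  have hfix := hS g hπ
  intro x
  have hsummand : ∀ i, g • e i x = e i x := fun i => by
    have hh : (t i)⁻¹ * g * t i ∈ H := by
      rw [mem_stabilizer_iff, mul_smul, mul_smul, ht, hfix, inv_smul_eq_iff, ht]
    have h1 := ha i
    have h2 := hb i
    rw [hfix] at h1 h2
    have hvw' : (⟨_, hh⟩ : H) • v = v ∧ (⟨_, hh⟩ : H) • w = w := by
      by_cases hi : i ∈ S <;> simp only [hi, if_true, if_false] at h1 h2
      · exact ⟨Subtype.ext h1, Subtype.ext h2⟩
      · exact ⟨Subtype.ext h2, Subtype.ext h1⟩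
    have hback : e i₀ ((t i)⁻¹ • e i x) = (t i)⁻¹ • e i x := by
      have h := hperm (t i)⁻¹ i (e i x)
      rw [hidem, show (t i)⁻¹ • i = i₀ by rw [inv_smul_eq_iff, ht]] at h
      exact h.symm
    have h3 : ((t i)⁻¹ * g * t i) • ((t i)⁻¹ • e i x) = (t i)⁻¹ • e i x :=
      congrArg Subtype.val (hpair ⟨_, hh⟩ hvw'.1 hvw'.2 ⟨_, hback⟩)
    rwa [mul_smul, smul_inv_smul, mul_smul, smul_left_cancel_iff] at h3
  conv_lhs => rw [← hsum x, Finset.smul_sum]
  conv_rhs => rw [← hsum x]
  exact Finset.sum_congr rfl fun i _ => hsummand i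

end Cfsg.Agent.OddOrbit
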