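import Mathlib.GroupTheory.Solvable
import Mathlib.GroupTheory.Subgroup.Centralizer
import Mathlib.GroupTheory.QuotientGroup.Basic
import Mathlib.SetTheory.Cardinal.NatCard
import Mathlib.Tactic.Group
import Mathlib.GroupTheory.Finiteness
import Mathlib.GroupTheory.PGroup
import Mathlib.Data.SetLike.Fintype
import Mathlib.Data.Set.Finite.Lemmas

/-!
The layer of class two above a maximal abelian normal subgroup of a solvable group.
-/

set_option autoImplicit false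

namespace Cfsg.Agent.OddOrbit

variable {G : Type*} [Group G] [Finite G]

theorem exists_layer (hs : Group.IsSolvable G) (A : Subgroup G) [hAn : A.Normal]
    (hcomm : ∀ a ∈ A, ∀ b ∈ A, a * b = b * a)
    (hmax : ∀ A' : Subgroup G, A'.Normal → (∀ a ∈ A', ∀ b ∈ A', a * b = b * a) → A ≤ A' → A' = A) :
    ∃ B : Subgroup G, B.Normal ∧ A ≤ B ∧ B ≤ Subgroup.centralizer (A : Set G) ∧
      (∀ b ∈ B, ∀ b' ∈ B, b * b' * b⁻¹ * b'⁻¹ ∈ A) ∧
      (∀ b ∈ B, (∀ b' ∈ B, b * b' = b' * b) → b ∈ A) ∧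
      (∀ c ∈ Subgroup.centralizer (A : Set G), (∀ b ∈ B, c * b = b * c) → c ∈ A) ∧
      (∀ U : Subgroup G, U.Normal → A ≤ U → U ≤ B →
        ∃ U' : Subgroup G, U'.Normal ∧ A ≤ U' ∧ U' ≤ B ∧ U ⊓ U' = A ∧ U ⊔ U' = B) := by
  let good : Subgroup G → Prop := fun B => B.Normal ∧ A ≤ B ∧ B ≤ Subgroup.centralizer (A : Set G) ∧
    (∀ b ∈ B, ∀ b' ∈ B, b * b' * b⁻¹ * b'⁻¹ ∈ A) ∧
    (∀ b ∈ B, (∀ b' ∈ B, b * b' = b' * b) → b ∈ A) ∧
    (∀ U : Subgroup G, U.Normal → A ≤ U → U ≤ B →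
      ∃ U' : Subgroup G, U'.Normal ∧ A ≤ U' ∧ U' ≤ B ∧ U ⊓ U' = A ∧ U ⊔ U' = B)
  have hgA : good A := ⟨hAn, le_rfl,
    fun a ha => Subgroup.mem_centralizer_iff.mpr fun b hb => hcomm b hb a ha,
    fun b hb b' hb' => by rw [hcomm b hb b' hb', mul_inv_cancel_right, mul_inv_cancel]; exact A.one_mem,
    fun b hb _ => hb,
    fun U _ h1 h2 => ⟨A, hAn, le_rfl, le_rfl, inf_eq_right.mpr h1, sup_eq_left.mpr h1 |>.trans
      (le_antisymm h2 h1)⟩⟩
  obtain ⟨B, hB, hBmax⟩ := Set.exists_max_image {B : Subgroup G | good B}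
    (fun B => Nat.card B) (Set.toFinite _) ⟨A, hgA⟩
  obtain ⟨hBn, hAB, hBC, hBcomm, hBZ, hBcr⟩ := hB
  refine ⟨B, hBn, hAB, hBC, hBcomm, hBZ, ?_, hBcr⟩
  by_contra hc
  push Not at hc
  obtain ⟨c, hcC, hcB, hcA⟩ := hc
  let D : Subgroup G := Subgroup.centralizer (A : Set G) ⊓ Subgroup.centralizer (B : Set G)
  have hAC : ∀ a ∈ A, a ∈ Subgroup.centralizer (A : Set G) := hgA.2.2.1
  have hAD : A ≤ D := fun a ha => ⟨hAC a ha, Subgroup.mem_centralizer_iff.mpr fun b hb =>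
    (Subgroup.mem_centralizer_iff.mp (hBC hb) a ha).symm⟩
  have hcD : c ∈ D := ⟨hcC, Subgroup.mem_centralizer_iff.mpr fun b hb => (hcB b hb).symm⟩
  obtain ⟨B₂, ⟨hB2n, hAB2, hB2D, hne⟩, hB2min⟩ := Set.exists_min_image
    {U : Subgroup G | U.Normal ∧ A ≤ U ∧ U ≤ D ∧ U ≠ A} (fun U => Nat.card U) (Set.toFinite _)
    ⟨D, inferInstance, hAD, le_rfl, fun h => hcA (h ▸ hcD)⟩
  have hmin : ∀ U : Subgroup G, U.Normal → A ≤ U → U ≤ B₂ → U = A ∨ U = B₂ := fun U h1 h2 h3 => by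
    by_cases h : U = A
    · exact Or.inl h
    · exact Or.inr (Subgroup.eq_of_le_of_card_ge h3 (hB2min U ⟨h1, h2, h3.trans hB2D, h⟩))
  -- abelian factor
  have hfac : ∀ b ∈ B₂, ∀ b' ∈ B₂, b * b' * b⁻¹ * b'⁻¹ ∈ A := by
    have := hs
    let π := QuotientGroup.mk' A
    have hN : B₂.map π ≠ ⊥ := fun h => hne (le_antisymm (fun x hx => by
      have := Subgroup.mem_map_of_mem π hx
      rw [h, Subgroup.mem_bot] at this
      exact (QuotientGroup.eq_one_iff x).mp this) hAB2)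
    have hlt := Group.IsSolvable.commutator_lt_of_ne_bot hN
    rw [← Subgroup.map_commutator] at hlt
    rcases hmin (⁅B₂, B₂⁆ ⊔ A) inferInstance le_sup_right
      (sup_le (Subgroup.commutator_le_self B₂) hAB2) with h | h
    · intro b hb b' hb'
      exact h ▸ Subgroup.mem_sup_left (Subgroup.commutator_mem_commutator hb hb')
    · refine absurd ?_ hlt.ne
      conv_rhs => rw [← h, Subgroup.map_sup]
      rw [QuotientGroup.map_mk'_self, sup_bot_eq]
  have hB2C : ∀ b ∈ B₂, ∀ a ∈ A, a * b = b * a := fun b hb a ha =>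
    Subgroup.mem_centralizer_iff.mp (hB2D hb).1 a ha
  have hBB2 : ∀ b ∈ B, ∀ d ∈ B₂, b * d = d * b := fun b hb d hd =>
    Subgroup.mem_centralizer_iff.mp (hB2D hd).2 b hb
  have hZ2 : ∀ b ∈ B₂, (∀ b' ∈ B₂, b * b' = b' * b) → b ∈ A := by
    let Z : Subgroup G := B₂ ⊓ Subgroup.centralizer (B₂ : Set G)
    have hZA : Z = A := hmax Z inferInstance
      (fun a ha b hb => (Subgroup.mem_centralizer_iff.mp ha.2 b hb.1).symm)
      (fun a ha => ⟨hAB2 ha, Subgroup.mem_centralizer_iff.mpr fun b hb => (hB2C b hb a ha).symm⟩)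
    exact fun b hb h => hZA ▸ ⟨hb, Subgroup.mem_centralizer_iff.mpr fun b' hb' => (h b' hb').symm⟩
  have hmeet : B ⊓ B₂ = A := le_antisymm
    (fun x hx => hBZ x hx.1 fun b hb => (hBB2 b hb x hx.2).symm) (le_inf hAB hAB2)
  have hgood : good (B ⊔ B₂) := by
    refine ⟨inferInstance, hAB.trans le_sup_left, sup_le hBC (fun x hx => (hB2D hx).1), ?_, ?_, ?_⟩
    · intro x hx x' hx'
      obtain ⟨b, hb, d, hd, rfl⟩ := Subgroup.mem_sup_of_normal_left.mp hx
      obtain ⟨b', hb', d', hd', rfl⟩ := Subgroup.mem_sup_of_normal_left.mp hx'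
      have e1 := hBB2 b' hb' d hd
      have e2 := hBB2 b hb d' hd'
      have hin := fun u (hu : u ∈ B) v (hv : v ∈ B₂) =>
        (Commute.inv_inv (hBB2 u hu v hv)).eq
      have : b * d * (b' * d') * (b * d)⁻¹ * (b' * d')⁻¹ =
          (b * b' * b⁻¹ * b'⁻¹) * (d * d' * d⁻¹ * d'⁻¹) := by
        have c1 : d * b' = b' * d := e1.symm
        have c2 : d * d' * d⁻¹ * b⁻¹ = b⁻¹ * (d * d' * d⁻¹) := (Commute.inv_right
          (hBB2 b hb _ (B₂.mul_mem (B₂.mul_mem hd hd') (B₂.inv_mem hd))).symm).eq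
        have c3 : (d * d' * d⁻¹ * d'⁻¹) * b'⁻¹ = b'⁻¹ * (d * d' * d⁻¹ * d'⁻¹) := (Commute.inv_right
          (hBB2 b' hb' _ (B₂.mul_mem (B₂.mul_mem (B₂.mul_mem hd hd') (B₂.inv_mem hd))
            (B₂.inv_mem hd'))).symm).eq
        calc b * d * (b' * d') * (b * d)⁻¹ * (b' * d')⁻¹
            = b * (d * b') * d' * d⁻¹ * b⁻¹ * d'⁻¹ * b'⁻¹ := by group
          _ = b * b' * (d * d' * d⁻¹ * b⁻¹) * d'⁻¹ * b'⁻¹ := by rw [c1]; group
          _ = b * b' * b⁻¹ * ((d * d' * d⁻¹ * d'⁻¹) * b'⁻¹) := by rw [c2]; group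
          _ = _ := by rw [c3]; group
      rw [this]
      exact A.mul_mem (hBcomm b hb b' hb') (hfac d hd d' hd')
    · intro x hx h
      obtain ⟨b, hb, d, hd, rfl⟩ := Subgroup.mem_sup_of_normal_left.mp hx
      have hbA : b ∈ A := hBZ b hb fun b' hb' => by
        have := h b' (Subgroup.mem_sup_left hb')
        rw [mul_assoc, ← hBB2 b' hb' d hd, ← mul_assoc, ← mul_assoc] at this
        exact mul_right_cancel this
      refine A.mul_mem hbA (hZ2 d hd fun d' hd' => ?_)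
      have := h d' (Subgroup.mem_sup_right hd')
      rw [mul_assoc, ← mul_assoc d' b, ← hBB2 b hb d' hd', mul_assoc] at this
      exact mul_left_cancel this
    · intro U hUn hAU hUB
      obtain ⟨U', hU'n, hAU', hU'B, hinf, hsup⟩ :=
        hBcr (U ⊓ B) inferInstance (le_inf hAU hAB) inf_le_right
      rcases hmin ((U ⊔ B) ⊓ B₂) inferInstance
        (le_inf (hAU.trans le_sup_left) hAB2) inf_le_right with h | h
      · have hU : U ≤ B := fun x hx => by
          obtain ⟨b, hb, d, hd, rfl⟩ := Subgroup.mem_sup_of_normal_left.mp (hUB hx)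
          have : d ∈ (U ⊔ B) ⊓ B₂ := ⟨by
            have := (U ⊔ B).mul_mem (Subgroup.mem_sup_right (B.inv_mem hb)) (Subgroup.mem_sup_left hx)
            rwa [inv_mul_cancel_left] at this, hd⟩
          rw [h] at this
          exact B.mul_mem hb (hAB this)
        rw [inf_eq_left.mpr hU] at hinf hsup
        refine ⟨U' ⊔ B₂, inferInstance, hAU'.trans le_sup_left, sup_le_sup_right hU'B _, ?_,
          by rw [← sup_assoc, hsup]⟩
        refine le_antisymm (fun x hx => ?_) (le_inf hAU (hAU'.trans le_sup_left))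
        obtain ⟨u, hu, d, hd, rfl⟩ := Subgroup.mem_sup_of_normal_left.mp hx.2
        have hdA : d ∈ A := hmeet ▸ ⟨by
          have := B.mul_mem (B.inv_mem (hU'B hu)) (hU hx.1)
          rwa [inv_mul_cancel_left] at this, hd⟩
        exact hinf ▸ ⟨hx.1, U'.mul_mem hu (hAU' hdA)⟩
      · refine ⟨U', hU'n, hAU', hU'B.trans le_sup_left, ?_, ?_⟩
        · rw [← hinf, inf_assoc, inf_eq_right.mpr hU'B]
        · refine le_antisymm (sup_le hUB (hU'B.trans le_sup_left)) ?_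
          have hBle : B ≤ U ⊔ U' := hsup ▸ sup_le_sup_right inf_le_left _
          refine sup_le hBle ?_
          rw [← h]
          exact inf_le_left.trans (sup_le le_sup_left hBle)
  have hle := hBmax _ hgood
  have heq : B = B ⊔ B₂ := Subgroup.eq_of_le_of_card_ge le_sup_left hle
  refine hne ?_
  rw [← hmeet, inf_eq_right.mpr (heq ▸ le_sup_right)]

end Cfsg.Agent.OddOrbit
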