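import Cfsg.Agent.OddOrbit.Primitive
import Cfsg.Agent.OddOrbit.Imprimitive

/-!
An odd solvable group acting completely reducibly on a finite abelian group has two vectors whose
common stabiliser is the kernel of the action.
-/

set_option autoImplicit false

namespace Cfsg.Agent.OddOrbit

universe u

theorem goodUpTo (n : ℕ) : GoodUpTo.{u} n := by
  induction n with
  | zero =>
    intro G V _ _ _ _ _ hV _ _ _
    exact absurd hV (Nat.card_pos).not_ge
  | succ n IH =>
    intro G V _ _ _ _ _ hV hG hs hcr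
    rcases subsingleton_or_nontrivial V with hsub | hnt
    · exact ⟨0, 0, fun _ _ _ x => Subsingleton.elim _ _⟩
    by_cases hirr : ∀ U : AddSubgroup V, (∀ a : G, ∀ v ∈ U, a • v ∈ U) → U = ⊥ ∨ U = ⊤
    · have := finite_end (V := V)
      have hGo := odd_range hG (repHom G V)
      have hGs := solvable_range hs (repHom G V)
      have hirr' : ∀ U : AddSubgroup V,
          (∀ a : (repHom G V).range, ∀ v ∈ U, a • v ∈ U) → U = ⊥ ∨ U = ⊤ :=
        fun U hU => hirr U fun a v hv => hU ⟨_, a, rfl⟩ v hv
      refine hasPair_of_range ?_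
      by_cases hf : ∀ A : Subgroup (repHom G V).range, A.Normal →
          (∀ a ∈ A, ∀ b ∈ A, a * b = b * a) → ∀ r ∈ ringOf V A, r ≠ 0 → ∀ x : V, r x = 0 → x = 0
      · exact hasPair_primitive IH hV hGo hGs hf
      · push Not at hf
        obtain ⟨A, hAn, hA, r, hr, hr0, x, hx, hx0⟩ := hf
        exact (hasPair_or_field IH hV hGo hGs hirr' A hA).resolve_right
          fun h => hx0 (h r hr hr0 x hx)
    · push Not at hirr
      obtain ⟨U, hU, hU0, hU1⟩ := hirr
      obtain ⟨W, hW, hinf, hsup⟩ := hcr U hU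
      have hlt : ∀ X : AddSubgroup V, X ≠ ⊤ → Nat.card X ≤ n := fun X hX => by
        have := lt_of_le_of_ne (AddSubgroup.card_le_card_addGroup X)
          fun h => hX (AddSubgroup.eq_top_of_card_eq X h)
        omega
      refine hasPair_of_split hU hW hinf hsup ?_ ?_
      · let := subAction U hU
        exact IH G U (hlt U hU1) hG hs (hcr.sub U hU)
      · let := subAction W hW
        exact IH G W (hlt W fun h => hU0 (by rw [h, inf_top_eq] at hinf; exact hinf)) hG hs
          (hcr.sub W hW)

/-- The regular orbit on pairs. -/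
theorem regular_pair {A : Type*} {V : Type u} [Group A] [Finite A] [AddCommGroup V] [Finite V]
    [DistribMulAction A V] [FaithfulSMul A V] (hA : Odd (Nat.card A))
    (hs : ∀ (H : Type u) [Group H] [Finite H], Odd (Nat.card H) → Group.IsSolvable H)
    (hcr : CR A V) : ∃ v w : V, ∀ a : A, a • v = v → a • w = w → a = 1 := by
  have := finite_end (V := V)
  let φ : A →* (AddMonoid.End V)ˣ := (DistribMulAction.toAddMonoidEnd A V).toHomUnits
  have hc : CR φ.range V := by
    intro U hU
    obtain ⟨W, hW, h1, h2⟩ := hcr U fun a v hv => hU ⟨_, a, rfl⟩ v hv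
    refine ⟨W, ?_, h1, h2⟩
    rintro ⟨_, a, rfl⟩ w hw
    exact hW a w hw
  obtain ⟨v, w, h⟩ := goodUpTo (Nat.card V) φ.range V le_rfl (odd_range hA φ)
    (hs _ (odd_range hA φ)) hc
  refine ⟨v, w, fun a ha hb => eq_of_smul_eq_smul (α := V) fun x => ?_⟩
  rw [one_smul]
  exact h ⟨_, a, rfl⟩ ha hb x

end Cfsg.Agent.OddOrbit
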