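import Mathlib.RingTheory.RootsOfUnity.PrimitiveRoots
import Mathlib.GroupTheory.OrderOfElement
import Mathlib.GroupTheory.Perm.Cycle.Type

/-!
A group with a nondegenerate alternating pairing into the units of a domain has square order.
-/

set_option autoImplicit false

namespace Cfsg.Agent.OddOrbit

universe u v

variable {K : Type v} [CommRing K] [IsDomain K] [Finite K]

theorem square_of_pairing {W : Type u} [CommGroup W] [Finite W] (f : W →* W →* Kˣ)
    (halt : ∀ a, f a a = 1) (hnd : ∀ a, (∀ b, f a b = 1) → a = 1)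
    (hexp : ∀ r : ℕ, r.Prime → ∀ w : W, w ^ (r ^ 2) = 1 → w ^ r = 1) :
    ∃ e, Nat.card W = e * e := by
  induction hn : Nat.card W using Nat.strong_induction_on generalizing W with
  | _ m ih =>
  subst hn
  rcases subsingleton_or_nontrivial W with hW | hW
  · exact ⟨1, Nat.card_of_subsingleton (1 : W)⟩
  obtain ⟨r, hr, hrW⟩ := Nat.exists_prime_and_dvd (Finite.one_lt_card (α := W)).ne'
  have := Fact.mk hr
  obtain ⟨a, ha⟩ := exists_prime_orderOf_dvd_card' r hrW
  obtain ⟨b₀, hb₀⟩ : ∃ b, f a b ≠ 1 := by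
    by_contra h
    push Not at h
    have := hnd a h
    rw [this, orderOf_one] at ha
    exact hr.ne_one ha.symm
  have hpow : ∀ x, f a x ^ r = 1 := fun x => by
    rw [← MonoidHom.pow_apply, ← map_pow, show a ^ r = 1 from ha ▸ pow_orderOf_eq_one a, map_one,
      MonoidHom.one_apply]
  have hord0 : orderOf (f a b₀) = r :=
    ((Nat.dvd_prime hr).mp (orderOf_dvd_of_pow_eq_one (hpow b₀))).resolve_left
      fun h => hb₀ (orderOf_eq_one_iff.mp h)
  obtain ⟨m, hm⟩ : r ∣ orderOf b₀ := hord0 ▸ orderOf_map_dvd (f a) b₀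
  have hrm : ¬ r ∣ m := by
    rintro ⟨j, rfl⟩
    have h1 : (b₀ ^ j) ^ r = 1 := hexp r hr (b₀ ^ j) (by
      rw [← pow_mul, show j * r ^ 2 = r * (r * j) by ring, ← hm, pow_orderOf_eq_one])
    rw [← pow_mul] at h1
    have hd := orderOf_dvd_of_pow_eq_one h1
    rw [hm] at hd
    have hpos : 0 < r * (r * j) := hm ▸ orderOf_pos b₀
    have hj : 0 < j := by by_contra h; simp [Nat.eq_zero_of_not_pos h] at hpos
    have hle := Nat.le_of_dvd (Nat.mul_pos hj hr.pos) hd
    have h2 := hr.two_le
    nlinarith [Nat.mul_pos hr.pos hj]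
  set b := b₀ ^ m with hbdef
  have hbr : b ^ r = 1 := by rw [hbdef, ← pow_mul, mul_comm, ← hm, pow_orderOf_eq_one]
  have hab : f a b ≠ 1 := fun h => hrm (by
    rw [hbdef, map_pow] at h
    exact hord0 ▸ orderOf_dvd_of_pow_eq_one h)
  have hord : orderOf (f a b) = r :=
    ((Nat.dvd_prime hr).mp (orderOf_dvd_of_pow_eq_one (hpow b))).resolve_left
      fun h => hab (orderOf_eq_one_iff.mp h)
  have hanti : ∀ x y, f x y * f y x = 1 := fun x y => by
    have := halt (x * y)
    rw [mul_comm]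
    simpa [map_mul, halt] using this
  let φ : W →* Kˣ × Kˣ := (f a).prod (f b)
  let Z : Subgroup Kˣ := Subgroup.zpowers (f a b)
  have hmemZ : ∀ z : Kˣ, z ^ r = 1 → z ∈ Z := fun z hz => by
    have hprim : IsPrimitiveRoot (f a b) r := IsPrimitiveRoot.iff_orderOf.mpr hord
    have hprim' : IsPrimitiveRoot ((f a b : Kˣ) : K) r := IsPrimitiveRoot.coe_units_iff.mpr hprim
    have : NeZero r := ⟨hr.ne_zero⟩
    obtain ⟨i, -, hi⟩ := hprim'.eq_pow_of_pow_eq_one (ξ := (z : K)) (by
      rw [← Units.val_pow_eq_pow_val, hz, Units.val_one])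
    exact ⟨i, Units.ext (by simpa using hi)⟩
  have hrange : φ.range = Z.prod Z := by
    refine le_antisymm ?_ fun p hp => ?_
    · rintro _ ⟨x, rfl⟩
      refine ⟨hmemZ _ (hpow x), hmemZ _ ?_⟩
      show f b x ^ r = 1
      rw [← MonoidHom.pow_apply, ← map_pow, hbr, map_one, MonoidHom.one_apply]
    · obtain ⟨⟨i, hi⟩, ⟨j, hj⟩⟩ := hp
      refine ⟨b ^ i * a ^ (-j), Prod.ext ?_ ?_⟩
      · show f a (b ^ i * a ^ (-j)) = p.1
        rw [map_mul, map_zpow, map_zpow, halt, one_zpow, mul_one]
        exact hi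
      · show f b (b ^ i * a ^ (-j)) = p.2
        rw [map_mul, map_zpow, map_zpow, halt, one_zpow, one_mul,
          eq_inv_of_mul_eq_one_left (hanti b a), zpow_neg, inv_zpow, inv_inv]
        exact hj
  have hcard : Nat.card φ.range = r * r := by
    rw [hrange, Nat.card_congr (Subgroup.prodEquiv Z Z).toEquiv, Nat.card_prod, Nat.card_zpowers,
      hord]
  let H : Subgroup W := φ.ker
  have hW2 : Nat.card W = r * r * Nat.card H := by
    rw [← hcard, φ.ker.card_eq_card_quotient_mul_card_subgroup]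
    congr 1
    exact Nat.card_congr (QuotientGroup.quotientKerEquivRange φ).toEquiv
  let g : H →* H →* Kˣ :=
    { toFun := fun h => (f h).comp H.subtype
      map_one' := by ext; simp
      map_mul' := fun x y => by ext; simp }
  have hlt : Nat.card H < Nat.card W := by
    rw [hW2]
    have := hr.two_le
    have : 0 < Nat.card H := Nat.card_pos
    nlinarith [Nat.mul_le_mul hr.two_le hr.two_le]
  have hnd' : ∀ h : H, (∀ y, g h y = 1) → h = 1 := fun h hh => Subtype.ext (hnd h fun x => by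
    obtain ⟨hi, hj⟩ := (hrange ▸ ⟨x, rfl⟩ : φ x ∈ Z.prod Z)
    obtain ⟨i, hi⟩ := hi
    obtain ⟨j, hj⟩ := hj
    have hy : x * (b ^ i * a ^ (-j))⁻¹ ∈ H := by
      refine MonoidHom.mem_ker.mpr (Prod.ext ?_ ?_)
      · show f a (x * (b ^ i * a ^ (-j))⁻¹) = 1
        rw [map_mul, map_inv, map_mul, map_zpow, map_zpow, halt, one_zpow, mul_one,
          show f a b ^ i = f a x from hi, mul_inv_cancel]
      · show f b (x * (b ^ i * a ^ (-j))⁻¹) = 1
        rw [map_mul, map_inv, map_mul, map_zpow, map_zpow, halt, one_zpow, one_mul,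
          eq_inv_of_mul_eq_one_left (hanti b a), zpow_neg, inv_zpow, inv_inv,
          show f a b ^ j = f b x from hj, mul_inv_cancel]
    have h1 : f (h : W) a = 1 ∧ f (h : W) b = 1 := by
      have hk := MonoidHom.mem_ker.mp h.2
      refine ⟨?_, ?_⟩
      · have := hanti a (h : W)
        rwa [show f a (h : W) = 1 from congrArg Prod.fst hk, one_mul] at this
      · have := hanti b (h : W)
        rwa [show f b (h : W) = 1 from congrArg Prod.snd hk, one_mul] at this
    have h2 : f (h : W) (x * (b ^ i * a ^ (-j))⁻¹) = 1 := hh ⟨_, hy⟩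
    rwa [map_mul, map_inv, map_mul, map_zpow, map_zpow, h1.1, h1.2, one_zpow, one_zpow, mul_one,
      inv_one, mul_one] at h2)
  obtain ⟨e, he⟩ := ih _ hlt g (fun h => halt h) hnd'
    (fun p hp w hw => Subtype.ext (hexp p hp w (by simpa using congrArg Subtype.val hw))) rfl
  exact ⟨r * e, by rw [hW2, he]; ring⟩

end Cfsg.Agent.OddOrbit
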