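import Cfsg.Agent.OddOrbit.Basic
import Mathlib.GroupTheory.GroupAction.Quotient
import Mathlib.GroupTheory.Perm.Basic
import Mathlib.Tactic.Group
import Mathlib.Algebra.BigOperators.Group.Finset.Basic

/-!
Gluck's lemma: an odd solvable permutation group has a regular orbit on the power set.
-/

set_option autoImplicit false

namespace Cfsg.Agent.OddOrbit

open MulAction

universe u

section Defs

variable (P ι : Type*) [Group P] [MulAction P ι]

/-- A set of points whose setwise stabiliser is the kernel of the action. -/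
def HasSet : Prop := ∃ S : Set ι, ∀ g : P, (∀ i, g • i ∈ S ↔ i ∈ S) → ∀ i : ι, g • i = i

end Defs

/-- Gluck's lemma for sets with at most `n` points. -/
def SetsUpTo (n : ℕ) : Prop :=
  ∀ (P ι : Type u) [Group P] [Finite P] [Finite ι] [MulAction P ι],
    Nat.card ι ≤ n → Odd (Nat.card P) → Group.IsSolvable P → HasSet P ι

/-- A parallelogram of an abelian group without involutions keeps the product of a diagonal. -/
theorem parallelogram {M : Type u} [CommGroup M] (hsqrt : ∀ z : M, z * z = 1 → z = 1) (v w : M)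
    (hv : v ≠ 1) (hw : w ≠ 1) (hvw : v ≠ w) (hprod : v * w ≠ 1) (f : M → M)
    (hf : ∀ a b, f a = f b → a = b) (hrel : f 1 * f (v * w) = f v * f w)
    (hmem : ∀ x, x = 1 ∨ x = v ∨ x = w ∨ x = v * w →
      f x = 1 ∨ f x = v ∨ f x = w ∨ f x = v * w) :
    f 1 * f (v * w) = v * w := by
  classical
  let s : Finset M := {1, v, w, v * w}
  have hs : ∀ x, x ∈ s ↔ x = 1 ∨ x = v ∨ x = w ∨ x = v * w := fun x => by simp [s]
  have himg : s.image f = s := by
    refine Finset.eq_of_subset_of_card_le (fun y hy => ?_) ?_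
    · obtain ⟨x, hx, rfl⟩ := Finset.mem_image.mp hy
      exact (hs _).mpr (hmem x ((hs x).mp hx))
    · rw [Finset.card_image_of_injOn fun a _ b _ h => hf a b h]
  have h1 : ∏ x ∈ s, f x = ∏ x ∈ s, x := by
    conv_rhs => rw [← himg, Finset.prod_image fun a _ b _ h => hf a b h]
  have n1 : (1 : M) ∉ ({v, w, v * w} : Finset M) := by
    simp [hv.symm, hw.symm, hprod.symm]
  have n2 : v ∉ ({w, v * w} : Finset M) := by simp [hvw, hw]
  have n3 : w ∉ ({v * w} : Finset M) := by simp [hv]
  simp only [s, Finset.prod_insert n1, Finset.prod_insert n2, Finset.prod_insert n3,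
    Finset.prod_singleton, one_mul] at h1
  have h2 : (f 1 * f (v * w)) * (f 1 * f (v * w)) = (v * w) * (v * w) := by
    conv_lhs => arg 2; rw [hrel]
    rw [show v * w * (v * w) = v * (w * (v * w)) from mul_assoc _ _ _, ← h1]
    ac_rfl
  refine mul_inv_eq_one.mp (hsqrt _ ?_)
  rw [mul_mul_mul_comm, h2, mul_mul_mul_comm, mul_inv_cancel, one_mul]

section Lemmas

variable {P ι : Type u} [Group P] [MulAction P ι]

/-- The action on an invariant set. -/
@[reducible] def setAction (O : Set ι) (hO : ∀ g : P, ∀ i ∈ O, g • i ∈ O) : MulAction P O where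
  smul g i := ⟨g • (i : ι), hO g i i.2⟩
  one_smul i := Subtype.ext (one_smul P (i : ι))
  mul_smul g h i := Subtype.ext (mul_smul g h (i : ι))

/-- Sets found on two complementary invariant parts. -/
theorem hasSet_of_union {O O' : Set ι} (hO : ∀ g : P, ∀ i ∈ O, g • i ∈ O)
    (hO' : ∀ g : P, ∀ i ∈ O', g • i ∈ O') (hdis : ∀ i ∈ O, i ∉ O') (hall : ∀ i, i ∈ O ∨ i ∈ O')
    (h1 : letI := setAction O hO; HasSet P O) (h2 : letI := setAction O' hO'; HasSet P O') :
    HasSet P ι := by
  obtain ⟨S₁, h1⟩ := h1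
  obtain ⟨S₂, h2⟩ := h2
  refine ⟨Subtype.val '' S₁ ∪ Subtype.val '' S₂, fun g hg i => ?_⟩
  rcases hall i with hi | hi
  · refine congrArg Subtype.val (h1 g (fun a => ?_) ⟨i, hi⟩)
    have key : ∀ b : O, (b : ι) ∈ Subtype.val '' S₁ ∪ Subtype.val '' S₂ ↔ b ∈ S₁ := fun b => by
      constructor
      · rintro (⟨c, hc, hcb⟩ | ⟨c, hc, hcb⟩)
        · rwa [← Subtype.ext hcb]
        · exact absurd (hcb ▸ c.2) (hdis _ b.2)
      · exact fun h => Or.inl ⟨b, h, rfl⟩
    exact (key _).symm.trans ((hg a).trans (key a))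
  · refine congrArg Subtype.val (h2 g (fun a => ?_) ⟨i, hi⟩)
    have key : ∀ b : O', (b : ι) ∈ Subtype.val '' S₁ ∪ Subtype.val '' S₂ ↔ b ∈ S₂ := fun b => by
      constructor
      · rintro (⟨c, hc, hcb⟩ | ⟨c, hc, hcb⟩)
        · exact absurd b.2 (hdis _ (hcb ▸ c.2))
        · rwa [← Subtype.ext hcb]
      · exact fun h => Or.inr ⟨b, h, rfl⟩
    exact (key _).symm.trans ((hg a).trans (key a))

/-- The stabiliser of a point of `κ` acting on the fibre over it. -/
@[reducible] def fibreAction {κ : Type u} [MulAction P κ] (q : ι → κ)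
    (hq : ∀ (g : P) (i : ι), q (g • i) = g • q i) (k : κ) :
    MulAction (stabilizer P k) {i : ι // q i = k} where
  smul h i := ⟨(h : P) • (i : ι), by rw [hq, i.2]; exact h.2⟩
  one_smul i := Subtype.ext (one_smul P (i : ι))
  mul_smul a b i := Subtype.ext (mul_smul (a : P) (b : P) (i : ι))

/-- A set for a system of blocks. -/
theorem hasSet_of_blocks (hP : Odd (Nat.card P)) {κ : Type u} [MulAction P κ] (q : ι → κ)
    (hq : ∀ (g : P) (i : ι), q (g • i) = g • q i) (k₀ : κ) (hne : ∃ i, q i = k₀)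
    (htr : ∀ k : κ, ∃ g : P, g • k₀ = k)
    (hT : HasSet P κ)
    (hS : letI := fibreAction q hq k₀; HasSet (stabilizer P k₀) {i : ι // q i = k₀}) :
    HasSet P ι := by
  let := fibreAction q hq k₀
  obtain ⟨T, hT⟩ := hT
  obtain ⟨S₁, hS⟩ := hS
  obtain ⟨i₀, hi₀⟩ := hne
  choose t ht using htr
  let down : ι → {i : ι // q i = k₀} := fun i =>
    ⟨(t (q i))⁻¹ • i, by rw [hq, inv_smul_eq_iff, ht]⟩
  refine ⟨{i | down i ∈ S₁ ↔ q i ∈ T}, fun g hg => ?_⟩
  have up : ∀ (k : κ) (j : {i : ι // q i = k₀}),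
      q (t k • (j : ι)) = k ∧ down (t k • (j : ι)) = j := fun k j => by
    have h1 : q (t k • (j : ι)) = k := by rw [hq, j.2, ht]
    exact ⟨h1, Subtype.ext (by simp only [down, h1, inv_smul_smul])⟩
  have hmem : ∀ k, (t (g • k))⁻¹ * g * t k ∈ stabilizer P k₀ := fun k => by
    rw [mem_stabilizer_iff, mul_smul, mul_smul, ht, inv_smul_eq_iff, ht]
  let h : κ → stabilizer P k₀ := fun k => ⟨_, hmem k⟩
  have hgt : ∀ k (j : {i : ι // q i = k₀}),
      g • t k • (j : ι) = t (g • k) • ((h k • j : {i : ι // q i = k₀}) : ι) := fun k j => by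
    show g • t k • (j : ι) = t (g • k) • (((t (g • k))⁻¹ * g * t k) • (j : ι))
    rw [mul_smul, mul_smul, smul_inv_smul]
  have key : ∀ k (j : {i : ι // q i = k₀}),
      ((h k • j ∈ S₁ ↔ g • k ∈ T) ↔ (j ∈ S₁ ↔ k ∈ T)) := fun k j => by
    have := hg (t k • (j : ι))
    simp only [Set.mem_ofPred_eq] at this
    rwa [hgt, (up _ _).1, (up _ _).2, (up _ _).1, (up _ _).2] at this
  have hTg : ∀ k, g • k ∈ T ↔ k ∈ T := fun k => by
    by_contra hk
    have hflip : ∀ j, h k • j ∈ S₁ ↔ j ∉ S₁ := fun j => by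
      have := key k j; tauto
    have hsq : ∀ j, (h k * h k) • j ∈ S₁ ↔ j ∈ S₁ := fun j => by
      rw [mul_smul, hflip, hflip]; tauto
    have hfix : h k • (⟨i₀, hi₀⟩ : {i : ι // q i = k₀}) = ⟨i₀, hi₀⟩ :=
      fixed_of_sq (odd_subgroup hP _) (by rw [← mul_smul]; exact hS _ hsq _)
    have := hflip ⟨i₀, hi₀⟩
    rw [hfix] at this
    tauto
  have hk : ∀ k : κ, g • k = k := hT g hTg
  have hfix : ∀ k j, h k • j = j := fun k j => hS (h k) (fun j' => by
    have h2 := key k j'
    have h3 := hTg k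
    tauto) j
  intro i
  have hi : i = t (q i) • (down i : ι) := (smul_inv_smul (t (q i)) i).symm
  rw [hi, hgt, hfix, hk]

/-- Conjugation of the point stabiliser on a normal subgroup. -/
@[reducible] def conjAction (N : Subgroup P) [hN : N.Normal] (H : Subgroup P) :
    DistribMulAction H (Additive N) where
  smul h n := Additive.ofMul ⟨(h : P) * (n.toMul : P) * (h : P)⁻¹, hN.conj_mem _ n.toMul.2 _⟩
  one_smul n := congrArg Additive.ofMul (Subtype.ext
    (show ((1 : H) : P) * (n.toMul : P) * ((1 : H) : P)⁻¹ = (n.toMul : P) by simp))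
  mul_smul a b n := congrArg Additive.ofMul (Subtype.ext
    (show ((a * b : H) : P) * (n.toMul : P) * ((a * b : H) : P)⁻¹
        = (a : P) * ((b : P) * (n.toMul : P) * (b : P)⁻¹) * (a : P)⁻¹ by simp [mul_assoc]))
  smul_zero a := congrArg Additive.ofMul (Subtype.ext
    (show (a : P) * 1 * (a : P)⁻¹ = 1 by simp))
  smul_add a m n := congrArg Additive.ofMul (Subtype.ext
    (show (a : P) * ((m.toMul : P) * (n.toMul : P)) * (a : P)⁻¹
        = ((a : P) * (m.toMul : P) * (a : P)⁻¹) * ((a : P) * (n.toMul : P) * (a : P)⁻¹) by group))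

/-- Four corners of a parallelogram in an odd abelian regular normal subgroup. -/
theorem hasSet_of_affine [Finite P] [FaithfulSMul P ι] (hP : Odd (Nat.card P)) (N : Subgroup P)
    [hNn : N.Normal] (hcomm : ∀ a ∈ N, ∀ b ∈ N, a * b = b * a) (i₀ : ι)
    (htr : ∀ i : ι, ∃ n ∈ N, n • i₀ = i) (v w : P) (hv : v ∈ N) (hw : w ∈ N)
    (hpair : ∀ h ∈ stabilizer P i₀, h * v * h⁻¹ = v → h * w * h⁻¹ = w →
      ∀ n ∈ N, h * n * h⁻¹ = n) :
    HasSet P ι := by
  have hfree : ∀ n ∈ N, n • i₀ = i₀ → n = 1 := fun n hn h => by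
    refine eq_of_smul_eq_smul (α := ι) fun i => ?_
    obtain ⟨m, hm, rfl⟩ := htr i
    rw [← mul_smul, hcomm n hn m hm, mul_smul, h, one_smul]
  have hinj : ∀ a ∈ N, ∀ b ∈ N, a • i₀ = b • i₀ → a = b := fun a ha b hb h => by
    have := hfree (b⁻¹ * a) (N.mul_mem (N.inv_mem hb) ha) (by rw [mul_smul, h, inv_smul_smul])
    exact (inv_mul_eq_one.mp this).symm
  have hpoint : ∀ h ∈ stabilizer P i₀, ∀ n : P, h • n • i₀ = (h * n * h⁻¹) • i₀ := fun h hh n => by
    rw [mul_smul, mul_smul, inv_smul_eq_iff.mpr (mem_stabilizer_iff.mp hh).symm]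
  have htriv : ∀ h ∈ stabilizer P i₀, (∀ n ∈ N, h * n * h⁻¹ = n) → ∀ i : ι, h • i = i := by
    intro h hh hc i
    obtain ⟨n, hn, rfl⟩ := htr i
    rw [hpoint h hh, hc n hn]
  by_cases hreg : ∃ u ∈ N, ∀ h ∈ stabilizer P i₀, h * u * h⁻¹ = u → ∀ n ∈ N, h * n * h⁻¹ = n
  · obtain ⟨u, hu, hreg⟩ := hreg
    refine ⟨{i₀, u • i₀}, fun g hg => ?_⟩
    have m0 := (hg i₀).mpr (Or.inl rfl)
    have mu := (hg (u • i₀)).mpr (Or.inr rfl)
    simp only [Set.mem_insert_iff, Set.mem_singleton_iff] at m0 mu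
    have h0 : g • i₀ = i₀ := by
      rcases m0 with h | h
      · exact h
      · rcases mu with h' | h'
        · rw [h]; exact (fixed_of_swap hP h h').symm
        · rw [h]; exact (MulAction.injective g (h.trans h'.symm)).symm
    refine htriv g h0 (hreg g h0 ?_)
    refine hinj _ (hNn.conj_mem u hu g) u hu ?_
    rw [← hpoint g h0]
    rcases mu with h' | h'
    · exact h'.trans (MulAction.injective g (h'.trans h0.symm)).symm
    · exact h'
  push Not at hreg
  have hv1 : v ≠ 1 := fun h => by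
    obtain ⟨g, hg, hgw, n, hn, hne⟩ := hreg w hw
    exact hne (hpair g hg (by rw [h]; group) hgw n hn)
  have hw1 : w ≠ 1 := fun h => by
    obtain ⟨g, hg, hgv, n, hn, hne⟩ := hreg v hv
    exact hne (hpair g hg hgv (by rw [h]; group) n hn)
  have hvw : v ≠ w := fun h => by
    obtain ⟨g, hg, hgv, n, hn, hne⟩ := hreg v hv
    exact hne (hpair g hg hgv (h ▸ hgv) n hn)
  have hprod : v * w ≠ 1 := fun h => by
    obtain ⟨g, hg, hgv, n, hn, hne⟩ := hreg v hv
    refine hne (hpair g hg hgv ?_ n hn)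
    rw [eq_inv_of_mul_eq_one_right h]
    have := congrArg (·⁻¹) hgv
    simpa [mul_assoc] using this
  refine ⟨{i | ∃ n ∈ N, (n = 1 ∨ n = v ∨ n = w ∨ n = v * w) ∧ n • i₀ = i}, fun g hg => ?_⟩
  have hmemS : ∀ n ∈ N, n • i₀ ∈ {i | ∃ n ∈ N, (n = 1 ∨ n = v ∨ n = w ∨ n = v * w) ∧ n • i₀ = i} →
      n = 1 ∨ n = v ∨ n = w ∨ n = v * w := by
    rintro n hn ⟨m, hm, hm', hmn⟩
    rwa [← hinj m hm n hn hmn]
  obtain ⟨c, hc, hc0⟩ := htr (g • i₀)
  have hgh : c⁻¹ * g ∈ stabilizer P i₀ := by
    rw [mem_stabilizer_iff, mul_smul, ← hc0, inv_smul_smul]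
  let f : P → P := fun n => c * ((c⁻¹ * g) * n * (c⁻¹ * g)⁻¹)
  have hfN : ∀ n ∈ N, f n ∈ N := fun n hn => N.mul_mem hc (hNn.conj_mem n hn _)
  have hgf : ∀ n : P, g • n • i₀ = f n • i₀ := fun n => by
    rw [mul_smul c, ← hpoint _ hgh, mul_smul c⁻¹ g, smul_inv_smul]
  have hfS : ∀ n ∈ N, (n = 1 ∨ n = v ∨ n = w ∨ n = v * w) →
      f n = 1 ∨ f n = v ∨ f n = w ∨ f n = v * w := fun n hn h =>
    hmemS _ (hfN n hn) (hgf n ▸ (hg _).mpr ⟨n, hn, h, rfl⟩)
  have hd : v * w ∈ N := N.mul_mem hv hw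
  have hf1 : f 1 = c := by simp [f]
  have hrel : f 1 * f (v * w) = f v * f w := by
    have e : ∀ a ∈ N, ∀ b ∈ N, f a * f b = c * c * ((c⁻¹ * g) * (a * b) * (c⁻¹ * g)⁻¹) := by
      intro a ha b hb
      have := hcomm _ (hNn.conj_mem a ha (c⁻¹ * g)) c hc
      simp only [f]
      calc _ = c * (((c⁻¹ * g) * a * (c⁻¹ * g)⁻¹) * c) * ((c⁻¹ * g) * b * (c⁻¹ * g)⁻¹) := by group
        _ = _ := by rw [this]; group
    rw [e 1 N.one_mem _ hd, e v hv w hw, one_mul]
  have hf_inj : ∀ a b : P, f a = f b → a = b := fun a b h => by simpa [f] using h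
  have hsqrt : ∀ z : P, z * z = 1 → z = 1 := fun z hz => by
    have h2 : orderOf z ∣ 2 := orderOf_dvd_of_pow_eq_one (by rw [sq, hz])
    rcases (Nat.dvd_prime Nat.prime_two).mp h2 with h | h
    · exact orderOf_eq_one_iff.mp h
    · exact absurd (h ▸ orderOf_dvd_natCard z) hP.not_two_dvd_nat
  let : CommGroup N :=
    { (inferInstance : Group N) with mul_comm := fun a b => Subtype.ext (hcomm a a.2 b b.2) }
  have hsum : f 1 * f (v * w) = v * w := congrArg Subtype.val
    (parallelogram (M := N) (fun z hz => Subtype.ext (hsqrt z (congrArg Subtype.val hz)))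
      ⟨v, hv⟩ ⟨w, hw⟩ (fun h => hv1 (congrArg Subtype.val h))
      (fun h => hw1 (congrArg Subtype.val h)) (fun h => hvw (congrArg Subtype.val h))
      (fun h => hprod (congrArg Subtype.val h)) (fun n => ⟨f n, hfN n n.2⟩)
      (fun a b h => Subtype.ext (hf_inj _ _ (congrArg Subtype.val h))) (Subtype.ext hrel)
      (fun x hx => by
        have := hfS x x.2 (by rcases hx with rfl | rfl | rfl | rfl <;> simp)
        rcases this with h | h | h | h
        exacts [Or.inl (Subtype.ext h), Or.inr (Or.inl (Subtype.ext h)),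
          Or.inr (Or.inr (Or.inl (Subtype.ext h))), Or.inr (Or.inr (Or.inr (Subtype.ext h)))]))
  have hP2 : ∀ {x : ι}, g • g • g • g • x = x → g • x = x := fun {x} h => fixed_of_sq hP
    (by rw [← mul_smul]; exact fixed_of_sq hP (by rw [mul_smul, mul_smul]; exact h))
  have hg4 : g • i₀ = i₀ := by
    have h0 : g • (1 : P) • i₀ = f 1 • i₀ := hgf 1
    rw [one_smul] at h0
    have hfour : ∀ a b : P, a ∈ N → b ∈ N → f 1 = a → f (v * w) = b →
        (a = v ∧ b = w ∨ a = w ∧ b = v) → g • i₀ = i₀ := by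
      intro a b ha hb h1 h4 hab
      have ha1 : a ≠ 1 := by rcases hab with ⟨rfl, -⟩ | ⟨rfl, -⟩ <;> assumption
      have hfa : f a = 1 ∨ f a = v * w := by
        rcases hfS a ha (by rcases hab with ⟨rfl, -⟩ | ⟨rfl, -⟩ <;> simp) with h | h | h | h
        · exact Or.inl h
        · exfalso
          rcases hab with ⟨ea, eb⟩ | ⟨ea, eb⟩
          · exact ha1 (hf_inj a 1 (h.trans (h1.trans ea).symm))
          · have := hf_inj a (v * w) (h.trans (h4.trans eb).symm)
            rw [ea] at this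
            exact hv1 (mul_right_cancel (b := w) (by rw [one_mul]; exact this.symm))
        · exfalso
          rcases hab with ⟨ea, eb⟩ | ⟨ea, eb⟩
          · have := hf_inj a (v * w) (h.trans (h4.trans eb).symm)
            rw [ea] at this
            exact hw1 (mul_left_cancel (a := v) (by rw [mul_one]; exact this.symm))
          · exact ha1 (hf_inj a 1 (h.trans (h1.trans ea).symm))
        · exact Or.inr h
      rcases hfa with h | h
      · exact fixed_of_sq hP (by rw [h0, hgf, h1, h, one_smul])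
      · refine hP2 ?_
        have e2 : g • g • i₀ = (v * w) • i₀ := by rw [h0, hgf, h1, h]
        rw [e2, hgf, h4, hgf]
        have hfb : f b = 1 := by
          have e' : f a * f b = v * w := by
            rcases hab with ⟨ea, eb⟩ | ⟨ea, eb⟩
            · rw [ea, eb, ← hrel, hsum]
            · rw [ea, eb, hcomm _ (hfN w hw) _ (hfN v hv), ← hrel, hsum]
          rw [h] at e'
          exact mul_left_cancel (e'.trans (mul_one _).symm)
        rw [hfb, one_smul]
    rcases hfS 1 N.one_mem (Or.inl rfl) with h | h | h | h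
    · rw [h0, h, one_smul]
    · refine hfour v w hv hw h ?_ (Or.inl ⟨rfl, rfl⟩)
      rw [h] at hsum; exact mul_left_cancel hsum
    · refine hfour w v hw hv h ?_ (Or.inr ⟨rfl, rfl⟩)
      rw [h] at hsum; exact mul_left_cancel (hsum.trans (hcomm v hv w hw))
    · exfalso
      rw [h] at hsum
      have e : f (v * w) = 1 := mul_left_cancel (hsum.trans (mul_one _).symm)
      have := fixed_of_swap hP (g := g) (x := i₀) (y := (v * w) • i₀)
        (by rw [h0, h]) (by rw [hgf, e, one_smul])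
      exact hprod (hfree _ hd this.symm)
  have hc1 : c = 1 := hfree c hc (hc0.trans hg4)
  have hfc : ∀ n : P, f n = g * n * g⁻¹ := fun n => by simp [f, hc1]
  refine htriv g hg4 ?_
  have hfv : f v = v := by
    rcases hfS v hv (Or.inr (Or.inl rfl)) with h | h | h | h
    · exact absurd (hf_inj v 1 (h.trans (by simp [hfc]))) hv1
    · exact h
    · exfalso
      have e : f w = v := by
        rw [h, hfc 1] at hrel
        have : f (v * w) = w * f w := by simpa using hrel
        have h' : f 1 * f (v * w) = v * w := hsum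
        rw [hfc 1, this] at h'
        simp only [mul_one, mul_inv_cancel, one_mul] at h'
        rw [← hcomm w hw v hv] at h'
        exact mul_left_cancel h'
      exact hvw (hinj v hv w hw (fixed_of_swap hP (g := g) (by rw [hgf, h]) (by rw [hgf, e])))
    · exfalso
      rw [hfc 1, h] at hrel
      have e2 : f (v * w) = v * w := by
        have h' := hsum
        rw [hfc 1] at h'
        simpa using h'
      exact hw1 (by simpa using hf_inj v (v * w) (h.trans e2.symm))
  refine hpair g hg4 ((hfc v).symm.trans hfv) ((hfc w).symm.trans ?_)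
  have h' := hsum
  rw [hrel, hfv] at h'
  exact mul_left_cancel h'

end Lemmas

end Cfsg.Agent.OddOrbit
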