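import Cfsg.Agent.OddOrbit.Field
import Cfsg.Agent.OddOrbit.Subsets
import Cfsg.Agent.OddOrbit.Fix
import Cfsg.Agent.OddOrbit.Layer
import Cfsg.Agent.OddOrbit.Pairing
import Mathlib.LinearAlgebra.Dual.Lemmas
import Mathlib.FieldTheory.Finiteness
import Mathlib.RingTheory.IntegralDomain
import Mathlib.LinearAlgebra.Dimension.Constructions
import Mathlib.LinearAlgebra.Dimension.FreeAndStrongRankCondition
import Mathlib.LinearAlgebra.FreeModule.Finite.Matrix

/-!
A primitive odd solvable group has two vectors with trivial common stabiliser.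
-/

set_option autoImplicit false

namespace Cfsg.Agent.OddOrbit

universe u

/-- The commutator `x y x⁻¹ y⁻¹`. -/
def cm {G : Type*} [Group G] (x y : G) : G := x * y * x⁻¹ * y⁻¹

theorem cm_eq_one {G : Type*} [Group G] {x y : G} : cm x y = 1 ↔ x * y = y * x := by
  rw [cm, mul_inv_eq_one, mul_inv_eq_iff_eq_mul]

theorem cm_inv {G : Type*} [Group G] (x y : G) : (cm x y)⁻¹ = cm y x := by
  simp only [cm]; group

theorem cm_mul_right {G : Type*} [Group G] (l b b' : G) (h : b * cm l b' = cm l b' * b) :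
    cm l (b * b') = cm l b * cm l b' := by
  calc cm l (b * b') = cm l b * (b * cm l b' * b⁻¹) := by simp only [cm]; group
    _ = _ := by rw [h, mul_inv_cancel_right]

theorem cm_mul_left {G : Type*} [Group G] (x x' y : G) (h : x * cm x' y = cm x' y * x) :
    cm (x * x') y = cm x' y * cm x y := by
  calc cm (x * x') y = x * cm x' y * x⁻¹ * cm x y := by simp only [cm]; group
    _ = _ := by rw [h, mul_inv_cancel_right]

theorem card_map_mk {G : Type*} [Group G] [Finite G] (A C : Subgroup G) [A.Normal] (h : A ≤ C) :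
    Nat.card C = Nat.card (C.map (QuotientGroup.mk' A)) * Nat.card A := by
  let f : C →* G ⧸ A := (QuotientGroup.mk' A).comp C.subtype
  have h1 : f.range = C.map (QuotientGroup.mk' A) := by
    rw [MonoidHom.range_comp, Subgroup.range_subtype]
  have h2 : f.ker = A.subgroupOf C := by
    ext x; simp [f, Subgroup.mem_subgroupOf]
  rw [f.ker.card_eq_card_quotient_mul_card_subgroup,
    Nat.card_congr (QuotientGroup.quotientKerEquivRange f).toEquiv, h1, h2,
    Nat.card_congr (Subgroup.subgroupOfEquivOfLe h).toEquiv]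

set_option maxHeartbeats 2000000 in
theorem hasPair_primitive {G V : Type u} [Group G] [Finite G] [AddCommGroup V] [Finite V]
    [Nontrivial V] [DistribMulAction G V] [FaithfulSMul G V] {n : ℕ} (IH : GoodUpTo.{u} n)
    (hV : Nat.card V ≤ n + 1) (hG : Odd (Nat.card G)) (hs : Group.IsSolvable G)
    (hfield : ∀ A : Subgroup G, A.Normal → (∀ a ∈ A, ∀ b ∈ A, a * b = b * a) →
      ∀ r ∈ ringOf V A, r ≠ 0 → ∀ x : V, r x = 0 → x = 0) : HasPair G V := by
  classical
  have := finite_end (V := V)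
  obtain ⟨A, ⟨hAn, hcomm⟩, hAmax⟩ := Set.exists_max_image
    {A : Subgroup G | A.Normal ∧ ∀ a ∈ A, ∀ b ∈ A, a * b = b * a} (fun A => Nat.card A)
    (Set.toFinite _) ⟨⊥, inferInstance, fun a ha b hb => by
      rw [Subgroup.mem_bot] at ha hb; rw [ha, hb]⟩
  have hmax : ∀ A' : Subgroup G, A'.Normal → (∀ a ∈ A', ∀ b ∈ A', a * b = b * a) → A ≤ A' →
      A' = A := fun A' h1 h2 h3 => (Subgroup.eq_of_le_of_card_ge h3 (hAmax A' ⟨h1, h2⟩)).symm
  have hfA := hfield A hAn hcomm
  -- the field
  let K := ringOf V A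
  let : CommRing K := { (inferInstance : Ring K) with
    mul_comm := fun r s => Subtype.ext (ringOf_comm hcomm r.2 s.2) }
  have hK0 : ∀ (r : K) (x : V), r.1 x = 0 → r ≠ 0 → x = 0 := fun r x h hr =>
    hfA r.1 r.2 (fun h' => hr (Subtype.ext h')) x h
  have : Nontrivial K := ⟨⟨1, 0, fun h => by
    obtain ⟨x, hx⟩ := exists_ne (0 : V)
    exact hx (congrArg (fun r : K => r.1 x) h)⟩⟩
  have : NoZeroDivisors K := ⟨fun {r s} h => by
    by_contra hc
    push Not at hc
    refine hc.2 (Subtype.ext (AddMonoidHom.ext fun x => ?_))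
    exact hK0 r _ (congrArg (fun t : K => t.1 x) h) hc.1⟩
  have : IsDomain K := NoZeroDivisors.to_isDomain K
  let : Field K := (Finite.isField_of_domain K).toField
  let toK : A →* K :=
    { toFun := fun a => ⟨rho (a : G), rho_mem_ringOf a.2⟩
      map_one' := Subtype.ext rho_one
      map_mul' := fun a b => Subtype.ext (rho_mul (a : G) b) }
  let aU : A →* Kˣ := toK.toHomUnits
  have haU : Function.Injective aU := fun a b h =>
    Subtype.ext (rho_injective (congrArg (fun u : Kˣ => (u : K).1) h))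
  have hsemi : ∀ a ∈ A, a ≠ 1 → ∀ x : V, a • x = x → x = 0 := fun a ha hne x hx => by
    refine hK0 (toK ⟨a, ha⟩ - 1) x (sub_eq_zero.mpr hx) (sub_ne_zero.mpr fun h => hne ?_)
    have h' : (rho a : AddMonoid.End V) = 1 := congrArg Subtype.val h
    exact rho_injective (h'.trans rho_one.symm)
  let C : Subgroup G := Subgroup.centralizer (A : Set G)
  have hAC : A ≤ C := fun a ha => Subgroup.mem_centralizer_iff.mpr fun b hb => hcomm b hb a ha
  have hCA : ∀ c ∈ C, ∀ a ∈ A, c * a = a * c := fun c hc a ha =>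
    (Subgroup.mem_centralizer_iff.mp hc a ha).symm
  have hCK : ∀ c ∈ C, ∀ (r : K) (x : V), c • r.1 x = r.1 (c • x) := fun c hc r x => by
    have hle : ringOf V A ≤ Subring.centralizer {(rho c : AddMonoid.End V)} := Subring.closure_le.mpr <| by
      rintro _ ⟨a, ha, rfl⟩
      refine Subring.mem_centralizer_iff.mpr ?_
      intro z hz
      rw [Set.mem_singleton_iff.mp hz, ← rho_mul, ← rho_mul, hCA c hc a ha]
    exact congrArg (fun f : AddMonoid.End V => f x) (Subring.mem_centralizer_iff.mp (hle r.2) _ rfl)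
  -- the generator
  obtain ⟨κ, hκ⟩ := IsCyclic.exists_generator (α := Kˣ)
  let cj : G → K := fun g => ⟨rho g * (κ : K).1 * rho g⁻¹, ringOf_conj g (κ : K).2⟩
  have hcjx : ∀ (g : G) (x : V), (cj g).1 (g • x) = g • (κ : K).1 x := fun g x => by
    show g • (κ : K).1 (g⁻¹ • g • x) = g • (κ : K).1 x
    rw [inv_smul_smul]
  have hcjC : ∀ g, cj g = (κ : K) → g ∈ C := fun g hg => by
    refine Subgroup.mem_centralizer_iff.mpr fun a ha => ?_
    obtain ⟨m, hm⟩ := (mem_powers_iff_mem_zpowers (x := κ) (y := aU ⟨a, ha⟩)).mpr (hκ _)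
    have hcomm' : Commute (rho g : AddMonoid.End V) (κ : K).1 := by
      have h := congrArg (fun r : K => r.1 * (rho g : AddMonoid.End V)) hg
      simp only [cj, mul_assoc, rho_inv_mul, mul_one] at h
      exact h
    have hpow : (rho a : AddMonoid.End V) = (κ : K).1 ^ m := by
      have h := congrArg (fun u : Kˣ => (u : K).1) hm
      refine (show (rho a : AddMonoid.End V) = ((aU ⟨a, ha⟩ : Kˣ) : K).1 from rfl).trans ?_
      simpa using h.symm
    refine rho_injective (V := V) ?_
    rw [rho_mul, rho_mul, hpow]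
    exact ((hcomm'.pow_right m).eq).symm
  obtain ⟨v, hv⟩ := exists_ne (0 : V)
  have hfixC : ∀ g : G, g • v = v → g • (κ : K).1 v = (κ : K).1 v → g ∈ C := fun g h1 h2 => by
    refine hcjC g (sub_eq_zero.mp (by_contra fun hne => hv (hK0 _ v ?_ hne)))
    show (cj g).1 v - (κ : K).1 v = 0
    have h := hcjx g v
    rw [h1, h2] at h
    rw [h, sub_self]
  by_cases hCle : C ≤ A
  · refine ⟨v, (κ : K).1 v, fun g h1 h2 x => ?_⟩
    have hgA := hCle (hfixC g h1 h2)
    by_contra hne
    exact hv (hsemi g hgA (fun h => hne (by rw [h, one_smul])) v h1)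
  -- the layer
  obtain ⟨B, hBn, hAB, hBC, hBcm, hBZ, hCB, hBcr⟩ := exists_layer hs A hcomm hmax
  replace hBcm : ∀ b ∈ B, ∀ b' ∈ B, cm b b' ∈ A := hBcm
  have hBA : ¬ B ≤ A := fun h => hCle fun c hc => hCB c hc fun b hb => hCA c hc b (h hb)
  let π := QuotientGroup.mk' A
  let N : Subgroup (G ⧸ A) := B.map π
  have hNn : N.Normal := hBn.map π (QuotientGroup.mk'_surjective A)
  have hNcomm : ∀ x y : N, x * y = y * x := by
    rintro ⟨_, b, hb, rfl⟩ ⟨_, b', hb', rfl⟩
    refine Subtype.ext ?_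
    show π b * π b' = π b' * π b
    rw [← cm_eq_one]
    simp only [cm, ← map_inv, ← map_mul]
    exact (QuotientGroup.eq_one_iff _).mpr (hBcm b hb b' hb')
  let : CommGroup N := { (inferInstance : Group N) with mul_comm := hNcomm }
  let : AddCommGroup (Additive N) := Additive.addCommGroup
  have hsur : ∀ x : N, ∃ b : B, π (b : G) = x := fun x => by
    obtain ⟨b, hb, hx⟩ := x.2; exact ⟨⟨b, hb⟩, hx⟩
  choose s hs' using hsur
  have hsC : ∀ x : N, (s x : G) ∈ C := fun x => hBC (s x).2
  have hcmC : ∀ {a : G}, a ∈ A → ∀ {y : G}, y ∈ C → cm a y = 1 ∧ cm y a = 1 := fun {a} ha {y} hy =>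
    ⟨cm_eq_one.mpr (hCA y hy a ha).symm, cm_eq_one.mpr (hCA y hy a ha)⟩
  have hrep : ∀ {l : G}, l ∈ C → (∀ b ∈ B, cm l b ∈ A) → ∀ (x : N) {b : G}, b ∈ B → π b = x →
      cm l (s x : G) = cm l b := fun {l} hl hlA x {b} hb hbx => by
    have ha : b⁻¹ * (s x : G) ∈ A := QuotientGroup.eq.mp (hbx.trans (hs' x).symm)
    conv_lhs => rw [show (s x : G) = b * (b⁻¹ * (s x : G)) by group]
    rw [cm_mul_right _ _ _ (hCA b (hBC hb) _ (hlA _ (hAB ha))), (hcmC ha hl).2, mul_one]
  have hmulr : ∀ {l : G}, l ∈ C → (∀ b ∈ B, cm l b ∈ A) → ∀ x y : N,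
      cm l (s (x * y) : G) = cm l (s x : G) * cm l (s y : G) := fun {l} hl hlA x y => by
    rw [← cm_mul_right l _ _ (hCA _ (hsC x) _ (hlA _ (s y).2))]
    exact hrep hl hlA (x * y) (B.mul_mem (s x).2 (s y).2) (by rw [map_mul, hs', hs']; rfl)
  have hsA : ∀ x : N, ∀ b ∈ B, cm (s x : G) b ∈ A := fun x b hb => hBcm _ (s x).2 b hb
  let val : N → N → Kˣ := fun x y => aU ⟨cm (s x : G) (s y : G), hsA x _ (s y).2⟩
  let f : N →* N →* Kˣ := MonoidHom.mk' (fun x => MonoidHom.mk' (val x) fun y z => by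
      rw [← map_mul]
      exact congrArg aU (Subtype.ext (hmulr (hsC x) (hsA x) y z))) fun x y => MonoidHom.ext fun z => by
    show val (x * y) z = val x z * val y z
    rw [← map_mul]
    refine congrArg aU (Subtype.ext ?_)
    show cm (s (x * y) : G) (s z : G) = cm (s x : G) (s z : G) * cm (s y : G) (s z : G)
    rw [← cm_inv (s z : G), hmulr (hsC z) (hsA z) x y, mul_inv_rev, cm_inv, cm_inv]
    exact hcomm _ (hsA y _ (s z).2) _ (hsA x _ (s z).2)
  have hf : ∀ x y, ((f x y : Kˣ) : K).1 = (rho (cm (s x : G) (s y : G)) : AddMonoid.End V) :=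
    fun x y => rfl
  have halt : ∀ x, f x x = 1 := fun x => by
    show aU _ = 1
    rw [← map_one aU]
    exact congrArg aU (Subtype.ext (cm_eq_one.mpr rfl))
  have hnd : ∀ x, (∀ y, f x y = 1) → x = 1 := fun x hx => by
    refine Subtype.ext ?_
    show (x : G ⧸ A) = 1
    rw [← hs' x]
    refine (QuotientGroup.eq_one_iff _).mpr (hBZ _ (s x).2 fun b hb => cm_eq_one.mp ?_)
    have h1 : cm (s x : G) (s ⟨π b, b, hb, rfl⟩ : G) = 1 := congrArg Subtype.val
      (haU ((hx ⟨π b, b, hb, rfl⟩).trans (map_one aU).symm))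
    rwa [hrep (hsC x) (hsA x) _ hb rfl] at h1
  -- the action on the layer
  have := hNn
  let act : DistribMulAction (⊤ : Subgroup (G ⧸ A)) (Additive N) := conjAction N ⊤
  have hcr : CR (⊤ : Subgroup (G ⧸ A)) (Additive N) := by
    intro U hU
    let U₀ : Subgroup (G ⧸ A) := (AddSubgroup.toSubgroup' U).map N.subtype
    have hU₀ : U₀.Normal := ⟨fun x hx g => by
      obtain ⟨y, hy, rfl⟩ := hx
      exact ⟨_, hU ⟨g, Subgroup.mem_top g⟩ (Additive.ofMul y) hy, rfl⟩⟩
    have hU₀N : U₀ ≤ N := by rintro x ⟨y, -, rfl⟩; exact y.2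
    have hUB : U₀.comap π ≤ B := fun x hx => by
      obtain ⟨b, hb, hbx⟩ := hU₀N hx
      have := B.mul_mem hb (hAB (QuotientGroup.eq.mp hbx))
      rwa [mul_inv_cancel_left] at this
    have hAU : A ≤ U₀.comap π := fun a ha => by
      show π a ∈ U₀
      rw [show π a = 1 from (QuotientGroup.eq_one_iff a).mpr ha]
      exact U₀.one_mem
    obtain ⟨U', hU'n, hAU', hU'B, hinf, hsup⟩ := hBcr _ inferInstance hAU hUB
    have hU'π : (U'.map π).Normal := hU'n.map π (QuotientGroup.mk'_surjective A)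
    refine ⟨Subgroup.toAddSubgroup ((U'.map π).subgroupOf N),
      fun g x hx => hU'π.conj_mem (x.toMul : G ⧸ A) hx (g : G ⧸ A), ?_, ?_⟩
    · refine (AddSubgroup.eq_bot_iff_forall _).mpr fun x hx => Additive.toMul.injective (Subtype.ext ?_)
      obtain ⟨w, hw, hwx⟩ := hx.2
      have hw0 : w ∈ U₀.comap π := by
        show π w ∈ U₀
        rw [hwx]; exact ⟨x.toMul, hx.1, rfl⟩
      have : w ∈ A := hinf ▸ (⟨hw0, hw⟩ : w ∈ U₀.comap π ⊓ U')
      exact hwx.symm.trans ((QuotientGroup.eq_one_iff w).mpr this)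
    · refine eq_top_iff.mpr fun x _ => ?_
      have hb : (s x.toMul : G) ∈ U₀.comap π ⊔ U' := hsup.symm ▸ (s x.toMul).2
      obtain ⟨a, ha, c, hc, hac⟩ := Subgroup.mem_sup_of_normal_right.mp hb
      obtain ⟨y, hy, hya⟩ := ha
      refine AddSubgroup.mem_sup.mpr ⟨Additive.ofMul y, hy,
        Additive.ofMul ⟨π c, c, hU'B hc, rfl⟩, ⟨c, hc, rfl⟩, Additive.toMul.injective (Subtype.ext ?_)⟩
      show (y : G ⧸ A) * π c = (x.toMul : G ⧸ A)
      rw [← hs' x.toMul, ← hac, map_mul]
      exact congrArg (· * π c) hya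
  have hexp : ∀ r : ℕ, r.Prime → ∀ w : N, w ^ (r ^ 2) = 1 → w ^ r = 1 := fun r hr w hw =>
    Additive.ofMul.injective (nsmul_eq_zero_of_cr hcr hr (w := Additive.ofMul w) (k := 2)
      (congrArg Additive.ofMul hw))
  obtain ⟨e, he⟩ := square_of_pairing f halt hnd hexp
  -- arithmetic properties
  have hGA : Nat.card (G ⧸ A) ∣ Nat.card G := by
    rw [A.card_eq_card_quotient_mul_card_subgroup]; exact dvd_mul_right _ _
  have hNodd : Odd (Nat.card N) := odd_subgroup (hG.of_dvd_nat hGA) N
  have heodd : Odd e := (Nat.odd_mul.mp (he ▸ hNodd)).1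
  have hN1 : ∃ x : N, x ≠ 1 := by
    obtain ⟨b, hb, hbA⟩ := SetLike.not_le_iff_exists.mp hBA
    exact ⟨⟨π b, b, hb, rfl⟩, fun h => hbA ((QuotientGroup.eq_one_iff b).mp (congrArg Subtype.val h))⟩
  have he1 : 1 < e := by
    obtain ⟨x, hx⟩ := hN1
    have : Nontrivial N := ⟨⟨x, 1, hx⟩⟩
    have h := Finite.one_lt_card (α := N)
    rw [he] at h
    by_contra hc
    have := Nat.mul_le_mul (Nat.not_lt.mp hc) (Nat.not_lt.mp hc)
    omega
  let q := Nat.card K
  have hunits : Nat.card Kˣ = q - 1 := Nat.card_units K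
  have hdvd : ∀ r : ℕ, r.Prime → r ∣ e → r ∣ q - 1 := fun r hr hre => by
    have := Fact.mk hr
    obtain ⟨x, hx⟩ := exists_prime_orderOf_dvd_card' (G := N) r (he ▸ Dvd.dvd.mul_left hre e)
    obtain ⟨y, hy⟩ : ∃ y, f x y ≠ 1 := by
      by_contra h
      push Not at h
      rw [hnd x h, orderOf_one] at hx
      exact hr.ne_one hx.symm
    have hp : f x y ^ r = 1 := by
      rw [← MonoidHom.pow_apply, ← map_pow, show x ^ r = 1 from hx ▸ pow_orderOf_eq_one x, map_one,
        MonoidHom.one_apply]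
    rw [← ((Nat.dvd_prime hr).mp (orderOf_dvd_of_pow_eq_one hp)).resolve_left
      (fun h => hy (orderOf_eq_one_iff.mp h)), ← hunits]
    exact orderOf_dvd_natCard _
  have hq2 : 2 ≤ q := Finite.one_lt_card
  have hq4 : 4 ≤ q := by
    obtain ⟨r, hr, hre⟩ := Nat.exists_prime_and_dvd he1.ne'
    have := Nat.le_of_dvd (by omega) (hdvd r hr hre)
    have : r ≠ 2 := fun h => heodd.not_two_dvd_nat (h ▸ hre)
    have := hr.two_le
    omega
  -- the dimension
  let T : N → Module.End K V := fun x =>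
    { toFun := fun w => (s x : G) • w
      map_add' := fun a b => smul_add _ a b
      map_smul' := fun r w => hCK _ (hsC x) r w }
  let _ : Fintype N := Fintype.ofFinite N
  have hchar_inj : ∀ x y : N, (Units.coeHom K).comp (f.flip x) = (Units.coeHom K).comp (f.flip y) →
      x = y := fun x y h => by
    refine mul_inv_eq_one.mp (hnd _ fun z => ?_)
    have hz : f z (x * y⁻¹) = 1 := by
      rw [map_mul, map_inv, show f z x = f z y from Units.ext (DFunLike.congr_fun h z), mul_inv_cancel]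
    have h2 := halt (x * y⁻¹ * z)
    rw [map_mul f (x * y⁻¹) z, MonoidHom.mul_apply, map_mul (f (x * y⁻¹)), map_mul (f z)] at h2
    simp only [halt, hz, one_mul, mul_one] at h2
    exact h2
  have hind : LinearIndependent K T := by
    refine Fintype.linearIndependent_iff.mpr fun c hc x₀ => ?_
    have hsum : ∀ (x : N) (w : V), ∑ y, ((f x y : Kˣ) : K) • (c y • T y w) = 0 := fun x w => by
      have h := congrArg (fun F : Module.End K V => (s x : G) • F ((s x : G)⁻¹ • w)) hc
      simp only [LinearMap.sum_apply, LinearMap.smul_apply, LinearMap.zero_apply, smul_zero,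
        Finset.smul_sum] at h
      rw [← h]
      refine Finset.sum_congr rfl fun y _ => ?_
      show ((f x y : Kˣ) : K).1 ((c y).1 ((s y : G) • w)) =
        (s x : G) • (c y).1 ((s y : G) • (s x : G)⁻¹ • w)
      rw [hCK _ (hsC x), hf, rho_apply, hCK _ (hAC (hsA x _ (s y).2))]
      congr 1
      rw [← mul_smul, ← mul_smul, ← mul_smul]
      congr 1
      simp only [cm]; group
    have hli : LinearIndependent K (fun y : N => ((Units.coeHom K).comp (f.flip y) : N → K)) :=
      (linearIndependent_monoidHom N K).comp _ fun x y h => hchar_inj x y h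
    have hzero : ∀ w : V, c x₀ • T x₀ w = 0 := fun w => by
      refine (Module.forall_dual_apply_eq_zero_iff K _).mp fun φ => ?_
      refine Fintype.linearIndependent_iff.mp hli (fun y => φ (c y • T y w)) ?_ x₀
      funext x
      have h := congrArg φ (hsum x w)
      rw [map_sum, map_zero] at h
      rw [Finset.sum_apply, Pi.zero_apply, ← h]
      refine Finset.sum_congr rfl fun y _ => ?_
      simp only [map_smul, Pi.smul_apply, smul_eq_mul]
      show c y * φ (T y w) * ((f x y : Kˣ) : K) = _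
      ring
    by_contra hne
    exact hv (by
      have h := hzero ((s x₀ : G)⁻¹ • v)
      change (c x₀).1 ((s x₀ : G) • (s x₀ : G)⁻¹ • v) = 0 at h
      rw [smul_inv_smul] at h
      exact hK0 _ v h hne)
  have : Module.Finite K V := Module.Finite.of_finite
  let d := Module.finrank K V
  have hNd : e * e ≤ d * d := by
    rw [← he, Nat.card_eq_fintype_card]
    refine hind.fintype_card_le_finrank.trans ?_
    rw [Module.finrank_linearMap]
  have hed : e ≤ d := Nat.mul_self_le_mul_self_iff.mp hNd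
  have hVq : Nat.card V = q ^ d := Module.natCard_eq_pow_finrank (K := K) (V := V)
  have hqd : 4 ^ e ≤ q ^ d :=
    (Nat.pow_le_pow_left hq4 e).trans (Nat.pow_le_pow_right (by omega) hed)
  have hNn' : Nat.card (Additive N) ≤ n := by
    have h2 : e * e < 2 ^ e * 2 ^ e := Nat.mul_self_lt_mul_self Nat.lt_two_pow_self
    rw [← mul_pow] at h2
    norm_num at h2
    rw [Nat.card_congr Additive.toMul, he]
    omega
  -- elements trivial on the layer
  have hkerB : ∀ l ∈ C, (∀ b ∈ B, cm l b ∈ A) → l ∈ B := by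
    intro l hl hlA
    let ψ : N →* K := (Units.coeHom K).comp
      (MonoidHom.mk' (fun y => aU ⟨cm l (s y : G), hlA _ (s y).2⟩) fun y z => by
        rw [← map_mul]; exact congrArg aU (Subtype.ext (hmulr hl hlA y z)))
    have : Finite (N →* K) := Finite.of_injective (fun χ => (χ : N → K)) DFunLike.coe_injective
    let _ : Fintype (N →* K) := Fintype.ofFinite _
    have hle : Fintype.card (N →* K) ≤ Fintype.card N := by
      refine (linearIndependent_monoidHom N K).fintype_card_le_finrank.trans ?_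
      rw [Module.finrank_fintype_fun_eq_card]
    have hbij := (Fintype.bijective_iff_injective_and_card (fun y : N => (Units.coeHom K).comp (f.flip y))).mpr
      ⟨fun x y h => hchar_inj x y h, le_antisymm (Fintype.card_le_of_injective _ fun x y h => hchar_inj x y h) hle⟩
    obtain ⟨y₀, hy₀⟩ := hbij.2 ψ
    have hlb : l * (s y₀ : G) ∈ A := by
      refine hCB _ (C.mul_mem hl (hsC y₀)) fun b hb => cm_eq_one.mp ?_
      rw [cm_mul_left _ _ _ (hCA l hl _ (hsA y₀ b hb))]
      have h1 : aU ⟨cm (s ⟨π b, b, hb, rfl⟩ : G) (s y₀ : G), _⟩ =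
          aU ⟨cm l (s ⟨π b, b, hb, rfl⟩ : G), _⟩ := Units.ext (DFunLike.congr_fun hy₀ _)
      have h2 : cm (s ⟨π b, b, hb, rfl⟩ : G) (s y₀ : G) = cm l (s ⟨π b, b, hb, rfl⟩ : G) :=
        congrArg Subtype.val (haU h1)
      rw [hrep hl hlA _ hb rfl, ← cm_inv, hrep (hsC y₀) (hsA y₀) _ hb rfl] at h2
      rw [← h2, mul_inv_cancel]
    have := B.mul_mem (hAB hlb) (B.inv_mem (s y₀).2)
    rwa [mul_inv_cancel_right] at this
  -- the group on the layer
  have : Finite (AddMonoid.End (Additive N)) := finite_end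
  let H := (repHom (⊤ : Subgroup (G ⧸ A)) (Additive N)).range
  have hHodd : Odd (Nat.card H) := odd_range (odd_subgroup (hG.of_dvd_nat hGA) ⊤) _
  have hHs : Group.IsSolvable H := solvable_range (by
    have := hs
    infer_instance) _
  have hH := card_le_orderBound (H := H) (W := Additive N) (CR.range hcr) hHodd hHs IH hNn'
    (by rw [Nat.card_congr Additive.toMul, he])
  obtain ⟨har1, har2⟩ := arith heodd he1 hed hq2 hdvd hH
  let M := Nat.card (C.map π)
  have hM : M ≤ e * e * Nat.card H := by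
    let θ : C →* H := (repHom (⊤ : Subgroup (G ⧸ A)) (Additive N)).rangeRestrict.comp
      (((π.comp C.subtype).codRestrict ⊤) fun _ => Subgroup.mem_top _)
    have hker : θ.ker.map C.subtype ≤ B := by
      rintro _ ⟨c, hc, rfl⟩
      refine hkerB c c.2 fun b hb => (QuotientGroup.eq_one_iff _).mp ?_
      have h := congrArg (fun h : H => (h : (AddMonoid.End (Additive N))ˣ).val
        (Additive.ofMul ⟨π b, b, hb, rfl⟩)) (MonoidHom.mem_ker.mp hc)
      have h' : π (c : G) * π b * (π (c : G))⁻¹ = π b :=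
        congrArg (fun a : Additive N => (a.toMul : G ⧸ A)) h
      show π (cm (c : G) b) = 1
      rw [cm, map_mul, map_mul, map_mul, map_inv, map_inv, h', mul_inv_cancel]
    have hkc : Nat.card θ.ker ≤ Nat.card B := by
      rw [Nat.card_congr (Subgroup.equivMapOfInjective θ.ker C.subtype C.subtype_injective).toEquiv]
      exact Subgroup.card_le_of_le hker
    have hC' : Nat.card C ≤ Nat.card H * Nat.card B := by
      rw [θ.ker.card_eq_card_quotient_mul_card_subgroup,
        Nat.card_congr (QuotientGroup.quotientKerEquivRange θ).toEquiv]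
      exact Nat.mul_le_mul (Subgroup.card_le_card_group _) hkc
    rw [card_map_mk A C hAC, card_map_mk A B hAB, show Nat.card (B.map π) = e * e from he] at hC'
    refine Nat.le_of_mul_le_mul_right (hC'.trans (le_of_eq ?_)) Nat.card_pos
    ring
  have hA1 : Nat.card A ≤ q - 1 := hunits ▸ Nat.card_le_card_of_injective aU haU
  have hκ1 : (κ : K) ≠ 1 := fun h => by
    obtain ⟨x, hx⟩ := hN1
    refine hx (hnd x fun y => ?_)
    have h1 : κ = 1 := Units.ext h
    obtain ⟨i, hi⟩ := Subgroup.mem_zpowers_iff.mp (hκ (f x y))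
    rw [← hi, h1, one_zpow]
  have hidx : C.index + 2 ≤ q := by
    have hcjne : ∀ g, cj g ≠ 0 ∧ cj g ≠ 1 := fun g => by
      have key : ∀ r : K, cj g = r → (κ : K).1 = rho g⁻¹ * r.1 * rho g := fun r h => by
        rw [← h]
        simp only [cj, mul_assoc]
        rw [rho_inv_mul, mul_one, ← mul_assoc, rho_inv_mul, one_mul]
      refine ⟨fun h => κ.ne_zero (Subtype.ext ?_), fun h => hκ1 (Subtype.ext ?_)⟩
      · rw [key 0 h]; show rho g⁻¹ * 0 * rho g = 0; rw [mul_zero, zero_mul]
      · rw [key 1 h]; show rho g⁻¹ * 1 * rho g = 1; rw [mul_one, rho_inv_mul]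
    have hinj : ∀ g g' : G, cj g = cj g' → g⁻¹ * g' ∈ C := fun g g' h => by
      refine hcjC _ (Subtype.ext ?_)
      have h' : (rho g * (κ : K).1 * rho g⁻¹ : AddMonoid.End V) = rho g' * (κ : K).1 * rho g'⁻¹ :=
        congrArg Subtype.val h
      show rho (g⁻¹ * g') * (κ : K).1 * rho (g⁻¹ * g')⁻¹ = (κ : K).1
      rw [mul_inv_rev, inv_inv, rho_mul, rho_mul]
      calc rho g⁻¹ * rho g' * (κ : K).1 * (rho g'⁻¹ * rho g)
          = rho g⁻¹ * (rho g' * (κ : K).1 * rho g'⁻¹) * rho g := by simp only [mul_assoc]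
        _ = rho g⁻¹ * (rho g * (κ : K).1 * rho g⁻¹) * rho g := by rw [h']
        _ = _ := by
          simp only [mul_assoc]
          rw [rho_inv_mul, mul_one, ← mul_assoc, rho_inv_mul, one_mul]
    have hin : Function.Injective (fun o : Option (Option (G ⧸ C)) =>
        (o.elim (0 : K) fun o' => o'.elim 1 fun g => cj g.out)) := by
      rintro (_ | _ | g) (_ | _ | g') h
      · rfl
      · exact absurd h zero_ne_one
      · exact absurd h.symm (hcjne _).1
      · exact absurd h one_ne_zero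
      · rfl
      · exact absurd h.symm (hcjne _).2
      · exact absurd h (hcjne _).1
      · exact absurd h (hcjne _).2
      · rw [← g.out_eq, ← g'.out_eq, show (⟦g.out⟧ : G ⧸ C) = ⟦g'.out⟧ from
          QuotientGroup.eq.mpr (hinj _ _ h)]
    have := Nat.card_le_card_of_injective _ hin
    rw [Finite.card_option, Finite.card_option] at this
    exact this
  have hcardG : Nat.card G ≤ Nat.card V := by
    rw [hVq, ← C.card_mul_index, card_map_mk A C hAC]
    refine le_trans ?_ har2
    calc M * Nat.card A * C.index ≤ (e * e * Nat.card H) * (q - 1) * (q - 2) :=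
          Nat.mul_le_mul (Nat.mul_le_mul hM hA1) (by omega)
      _ = _ := by ring
  have hM3 : Nat.card (C.map (QuotientGroup.mk' A)) ^ 3 ≤ Nat.card V ^ 2 := by
    rw [hVq]; exact (Nat.pow_le_pow_left hM 3).trans har1
  -- fixed points
  have hodd2 : ∀ z : G, z * z = 1 → z = 1 := fun z hz => by
    have h3 : orderOf z ∣ 2 := orderOf_dvd_of_pow_eq_one (by rw [sq, hz])
    rcases (Nat.dvd_prime Nat.prime_two).mp h3 with h4 | h4
    · exact orderOf_eq_one_iff.mp h4
    · exact absurd (h4 ▸ orderOf_dvd_natCard z) hG.not_two_dvd_nat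
  have hBfix : ∀ y ∈ B, y ∉ A → Nat.card (fixSub (V := V) y) ^ 3 ≤ Nat.card V := by
    intro y hy hyA
    obtain ⟨b, hb, hne⟩ : ∃ b ∈ B, y * b ≠ b * y := by
      by_contra h
      push Not at h
      exact hyA (hBZ y hy h)
    have hzA : cm y b ∈ A := hBcm y hy b hb
    have hz1 : cm y b ≠ 1 := fun h => hne (cm_eq_one.mp h)
    exact fix_cube_le (y := y) (b := b) (z := cm y b) (by simp only [cm]; group)
      (hCA b (hBC hb) _ hzA).symm (hCA y (hBC hy) _ hzA) (hsemi _ hzA hz1)
      (hsemi _ (A.mul_mem hzA hzA) fun h => hz1 (hodd2 _ h))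
  refine hasPair_of_count hG A C hsemi (fun g hg => fix_sq_le A hsemi hcomm hg) ?_ hM3 hcardG
  intro g hgC hgA
  have hpos : 0 < Nat.card V := Nat.card_pos
  by_cases hgB : g ∈ B
  · calc _ = (Nat.card (fixSub (V := V) g) ^ 3) ^ 2 := by ring
      _ ≤ Nat.card V ^ 2 := Nat.pow_le_pow_left (hBfix g hgB hgA) 2
      _ ≤ Nat.card V ^ 4 := Nat.pow_le_pow_right hpos (by norm_num)
  · obtain ⟨b, hb, hyA⟩ : ∃ b ∈ B, cm g b ∉ A := by
      by_contra h
      push Not at h
      exact hgB (hkerB g hgC h)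
    have hyB : cm g b ∈ B := B.mul_mem (hBn.conj_mem b hb g) (B.inv_mem hb)
    calc _ = (Nat.card (fixSub (V := V) g) ^ 2) ^ 3 := by ring
      _ ≤ (Nat.card V * Nat.card (fixSub (V := V) (cm g b))) ^ 3 :=
          Nat.pow_le_pow_left (fix_sq_le_mul g b) 3
      _ = Nat.card V ^ 3 * Nat.card (fixSub (V := V) (cm g b)) ^ 3 := by ring
      _ ≤ Nat.card V ^ 3 * Nat.card V := Nat.mul_le_mul_left _ (hBfix _ hyB hyA)
      _ = _ := by ring

end Cfsg.Agent.OddOrbit
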